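import Mathlib

set_option autoImplicit false
set_option linter.unusedSectionVars false

/-!
# Cubic polynomials over a finite field of characteristic 2 with constant term -1

Every such polynomial divides `X ^ k - C l` for one of five explicit exponents `k`.
-/

namespace Cfsg.Agent.H375.LThree

open Polynomial

/-- The relevant numbers. -/
def dd (q : ℕ) : ℕ := Nat.gcd 3 (q - 1)
/-- `(q-1)/d` -/
def ee (q : ℕ) : ℕ := (q - 1) / dd q
/-- `(q^2+q+1)/d` -/
def nn (q : ℕ) : ℕ := (q ^ 2 + q + 1) / dd q
/-- `(q^2-1)/d` -/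
def xx (q : ℕ) : ℕ := (q + 1) * ee q

theorem dd_dvd_three (q : ℕ) : dd q ∣ 3 := Nat.gcd_dvd_left _ _
theorem dd_dvd (q : ℕ) : dd q ∣ q - 1 := Nat.gcd_dvd_right _ _
theorem dd_pos (q : ℕ) : 0 < dd q := Nat.gcd_pos_of_pos_left _ (by norm_num)
theorem dd_mul_ee (q : ℕ) : dd q * ee q = q - 1 := Nat.mul_div_cancel' (dd_dvd q)
theorem dd_cases (q : ℕ) : dd q = 1 ∨ dd q = 3 := by
  have h := (Nat.dvd_prime Nat.prime_three).mp (dd_dvd_three q)
  exact h

theorem dd_dvd_sum (q : ℕ) (hq : 1 ≤ q) : dd q ∣ q ^ 2 + q + 1 := by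
  have h1 := dd_dvd q
  have h3 := dd_dvd_three q
  obtain ⟨k, rfl⟩ : ∃ k, q = k + 1 := ⟨q - 1, by omega⟩
  simp only [Nat.add_sub_cancel] at h1
  have : (k + 1) ^ 2 + (k + 1) + 1 = k * (k + 3) + 3 := by ring
  rw [this]
  exact dvd_add (Dvd.dvd.mul_right h1 _) h3

theorem dd_mul_nn (q : ℕ) (hq : 1 ≤ q) : dd q * nn q = q ^ 2 + q + 1 :=
  Nat.mul_div_cancel' (dd_dvd_sum q hq)

section

variable {F : Type*} [Field F] [Fintype F]

theorem irred_dvd {p : F[X]} (hp : Irreducible p) (hm : p.Monic) {N : ℕ}
    (hN : N = ∑ i ∈ Finset.range p.natDegree, Fintype.card F ^ i) :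
    p ∣ X ^ N - C ((-1) ^ p.natDegree * p.coeff 0) := by
  classical
  have : Fact (Irreducible p) := ⟨hp⟩
  have hne : p ≠ 0 := hp.ne_zero
  let pb := AdjoinRoot.powerBasis hne
  have hfin : FiniteDimensional F (AdjoinRoot p) := pb.finite
  have : Finite (AdjoinRoot p) := Module.finite_of_finite F
  have hfr : Module.finrank F (AdjoinRoot p) = p.natDegree := by
    rw [pb.finrank, AdjoinRoot.powerBasis_dim]
  have h1 := FiniteField.algebraMap_norm_eq_pow_sum F (AdjoinRoot p) (AdjoinRoot.root p)
  have h2 : Algebra.norm F (AdjoinRoot.root p) = (-1) ^ p.natDegree * p.coeff 0 := by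
    have := Algebra.PowerBasis.norm_gen_eq_coeff_zero_minpoly pb
    rw [AdjoinRoot.powerBasis_gen, AdjoinRoot.powerBasis_dim, AdjoinRoot.minpoly_root hne,
      hm.leadingCoeff, inv_one, C_1, mul_one] at this
    exact this
  rw [hfr, ← Fintype.card_eq_nat_card, h2, ← hN] at h1
  rw [← AdjoinRoot.mk_eq_zero, map_sub, map_pow, AdjoinRoot.mk_X, AdjoinRoot.mk_C, ← h1,
    ← AdjoinRoot.algebraMap_eq, sub_self]

theorem pow_three_ee {a : F} (ha : a ≠ 0) : a ^ (3 * ee (Fintype.card F)) = 1 := by
  obtain ⟨c, hc⟩ := dd_dvd_three (Fintype.card F)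
  have : 3 * ee (Fintype.card F) = (Fintype.card F - 1) * c := by
    calc 3 * ee (Fintype.card F) = (dd (Fintype.card F) * c) * ee (Fintype.card F) := by rw [← hc]
      _ = (dd (Fintype.card F) * ee (Fintype.card F)) * c := by ring
      _ = _ := by rw [dd_mul_ee]
  rw [this, pow_mul, FiniteField.pow_card_sub_one_eq_one a ha, one_pow]

/-- cube roots of unity of an extension lie in `F` if `3 ∣ q - 1`. -/
theorem mem_of_pow_three {K : Type*} [Field K] [Algebra F K] (h3 : 3 ∣ Fintype.card F - 1) {w : K}
    (hw : w ^ 3 = 1) : ∃ c : F, algebraMap F K c = w := by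
  classical
  -- an element of order 3 in `F`
  have hc : 3 ∣ Nat.card Fˣ := by rwa [Nat.card_units, Nat.card_eq_fintype_card]
  obtain ⟨z, hz⟩ := exists_prime_orderOf_dvd_card' (G := Fˣ) 3 hc
  have hz3 : (z : F) ^ 3 = 1 := by
    have : z ^ 3 = 1 := orderOf_dvd_iff_pow_eq_one.mp (dvd_of_eq hz)
    have h2 := congrArg Units.val this
    simpa using h2
  have hz1 : (z : F) ≠ 1 := by
    intro h
    have : z = 1 := Units.ext h
    rw [this, orderOf_one] at hz
    norm_num at hz
  have hq : (z : F) ^ 2 + z + 1 = 0 := by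
    have h1 : ((z : F) - 1) * ((z : F) ^ 2 + z + 1) = 0 := by linear_combination hz3
    rcases mul_eq_zero.mp h1 with h | h
    · exact absurd (sub_eq_zero.mp h) hz1
    · exact h
  have hq' : (algebraMap F K z) ^ 2 + algebraMap F K z + 1 = 0 := by
    rw [← map_pow, ← map_add, ← map_one (algebraMap F K), ← map_add, hq, map_zero]
  have h2 : (w - 1) * ((w - algebraMap F K z) * (w - algebraMap F K (z ^ 2 : F))) = 0 := by
    rw [map_pow]
    have hz3' : (algebraMap F K z) ^ 3 = 1 := by rw [← map_pow, hz3, map_one]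
    linear_combination hw - (w - 1) * w * hq' + (w - 1) * hz3'
  rcases mul_eq_zero.mp h2 with h | h
  · exact ⟨1, by rw [map_one]; exact (sub_eq_zero.mp h).symm⟩
  · rcases mul_eq_zero.mp h with h | h
    · exact ⟨z, (sub_eq_zero.mp h).symm⟩
    · exact ⟨(z : F) ^ 2, (sub_eq_zero.mp h).symm⟩

theorem sub_C_dvd {a : F} {k : ℕ} {l : F} (h : a ^ k = l) : X - C a ∣ (X ^ k - C l : F[X]) := by
  rw [dvd_iff_isRoot, IsRoot.def, eval_sub, eval_pow, eval_X, eval_C, h, sub_self]

theorem natDegree_le_three_cases {p : F[X]} (hm : p.Monic) (h3 : p.natDegree = 3) :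
    Irreducible p ∨ ∃ (a : F) (r : F[X]), r.Monic ∧ r.natDegree = 2 ∧ p = (X - C a) * r := by
  by_cases hr : p.roots = 0
  · left
    exact (hm.irreducible_iff_roots_eq_zero_of_degree_le_three (by omega) (by omega)).mpr hr
  · right
    obtain ⟨a, ha⟩ := Multiset.exists_mem_of_ne_zero hr
    have hroot : p.IsRoot a := (mem_roots'.mp ha).2
    obtain ⟨r, hr⟩ := dvd_iff_isRoot.mpr hroot
    have hrm : r.Monic := by
      have := hm
      rw [hr] at this
      exact (monic_X_sub_C a).of_mul_monic_left this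
    refine ⟨a, r, hrm, ?_, hr⟩
    have h := (monic_X_sub_C a).natDegree_mul hrm
    rw [← hr, h3, natDegree_X_sub_C] at h
    omega

theorem natDegree_two_cases {p : F[X]} (hm : p.Monic) (h2 : p.natDegree = 2) :
    Irreducible p ∨ ∃ a b : F, p = (X - C a) * (X - C b) := by
  by_cases hr : p.roots = 0
  · left
    exact (hm.irreducible_iff_roots_eq_zero_of_degree_le_three (by omega) (by omega)).mpr hr
  · right
    obtain ⟨a, ha⟩ := Multiset.exists_mem_of_ne_zero hr
    have hroot : p.IsRoot a := (mem_roots'.mp ha).2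
    obtain ⟨r, hr⟩ := dvd_iff_isRoot.mpr hroot
    have hrm : r.Monic := by
      have := hm
      rw [hr] at this
      exact (monic_X_sub_C a).of_mul_monic_left this
    have hd : r.natDegree = 1 := by
      have h := (monic_X_sub_C a).natDegree_mul hrm
      rw [← hr, h2, natDegree_X_sub_C] at h
      omega
    refine ⟨a, -r.coeff 0, ?_⟩
    rw [hr]
    congr 1
    rw [C_neg, sub_neg_eq_add]
    exact hrm.eq_X_add_C hd

/-- **The five cases.** -/
theorem five_cases [CharP F 2] {p : F[X]} (hm : p.Monic) (h3 : p.natDegree = 3) (h0 : p.coeff 0 = -1) :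
    (∃ l : F, p ∣ X ^ nn (Fintype.card F) - C l) ∨ (∃ l : F, p ∣ X ^ xx (Fintype.card F) - C l) ∨
    (∃ l : F, p ∣ X ^ (Fintype.card F - 1) - C l) ∨ (∃ l : F, p ∣ X ^ (2 * ee (Fintype.card F)) - C l) ∨
    (∃ l : F, p ∣ X ^ 4 - C l) := by
  classical
  set q := Fintype.card F with hq
  have hq1 : 1 < q := Fintype.one_lt_card
  rcases natDegree_le_three_cases hm h3 with hirr | ⟨a, r, hrm, hr2, hpr⟩
  · -- irreducible
    left
    have h1 := irred_dvd hirr hm (N := q ^ 2 + q + 1) (by
      rw [h3, ← hq]; simp [Finset.sum_range_succ]; ring)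
    rw [h3, h0] at h1
    have h2 : ((-1 : F)) ^ 3 * -1 = 1 := by norm_num
    rw [h2] at h1
    rcases dd_cases q with hd | hd
    · have h4 := dd_mul_nn q (by omega)
      rw [hd, one_mul] at h4
      exact ⟨1, by rw [h4]; exact h1⟩
    · have h4 := dd_mul_nn q (by omega)
      have : Fact (Irreducible p) := ⟨hirr⟩
      have h5 : (AdjoinRoot.root p ^ nn q) ^ 3 = 1 := by
        rw [← pow_mul, mul_comm, ← hd, h4]
        have := AdjoinRoot.mk_eq_zero.mpr h1
        rw [map_sub, map_pow, AdjoinRoot.mk_X, C_1, map_one, sub_eq_zero] at this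
        exact this
      have h6 : 3 ∣ q - 1 := by
        have := dd_dvd q
        rwa [hd] at this
      obtain ⟨c, hc⟩ := mem_of_pow_three h6 h5
      refine ⟨c, ?_⟩
      rw [← AdjoinRoot.mk_eq_zero, map_sub, map_pow, AdjoinRoot.mk_X, AdjoinRoot.mk_C, ← hc,
        ← AdjoinRoot.algebraMap_eq, sub_self]
  · have ha0 : a * r.coeff 0 = 1 := by
      have : p.coeff 0 = -(a * r.coeff 0) := by
        rw [hpr, coeff_zero_eq_eval_zero, eval_mul, coeff_zero_eq_eval_zero]
        simp
      rw [h0] at this
      linear_combination this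
    have ha : a ≠ 0 := by
      rintro rfl; simp at ha0
    have hδ : r.coeff 0 ≠ 0 := by
      intro h; rw [h, mul_zero] at ha0; exact zero_ne_one ha0
    have hcharp : (2 : F) = 0 := CharTwo.two_eq_zero
    rcases natDegree_two_cases hrm hr2 with hirr | ⟨b, c, hbc⟩
    · right; left
      have h1 := irred_dvd hirr hrm (N := q + 1) (by
        rw [hr2, ← hq]; simp [Finset.sum_range_succ]; ring)
      rw [hr2] at h1
      have h2 : ((-1 : F)) ^ 2 * r.coeff 0 = r.coeff 0 := by norm_num
      rw [h2] at h1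
      have : Fact (Irreducible r) := ⟨hirr⟩
      refine ⟨r.coeff 0 ^ ee q, ?_⟩
      rw [hpr]
      apply IsCoprime.mul_dvd
      · -- coprime
        have hcop := (irreducible_X_sub_C a).coprime_iff_not_dvd (p := X - C a) (n := r)
        refine hcop.mpr ?_
        intro hd
        obtain ⟨s, hs⟩ := hd
        have := hirr.isUnit_or_isUnit hs
        rcases this with hu | hu
        · exact (irreducible_X_sub_C a).not_isUnit hu
        · have h5 : r.natDegree = (X - C a).natDegree + s.natDegree := by
            rw [hs]; exact natDegree_mul (X_sub_C_ne_zero a) (by rintro rfl; simp at hu)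
          rw [hr2, natDegree_X_sub_C, natDegree_eq_zero_of_isUnit hu] at h5
          omega
      · apply sub_C_dvd
        have h5 : a ^ q = a := FiniteField.pow_card a
        have h6 : a ^ xx q = (a ^ 2) ^ ee q := by
          rw [xx, pow_mul, pow_succ, h5]; ring_nf
        have h7 := pow_three_ee ha
        rw [← hq] at h7
        have h8 : (a * r.coeff 0) ^ ee q = 1 := by rw [ha0, one_pow]
        rw [mul_pow] at h8
        have h9 : (a ^ 2) ^ ee q * a ^ ee q = 1 := by
          rw [← mul_pow, ← pow_succ, ← pow_mul]; exact h7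
        rw [h6]
        have hae : a ^ ee q ≠ 0 := pow_ne_zero _ ha
        apply mul_right_cancel₀ hae
        rw [h9, mul_comm, h8]
      · rw [← AdjoinRoot.mk_eq_zero] at h1 ⊢
        rw [map_sub, map_pow, AdjoinRoot.mk_X, AdjoinRoot.mk_C, sub_eq_zero] at h1 ⊢
        rw [xx, pow_mul, h1, map_pow]
    · have habc : a * (b * c) = 1 := by
        have : r.coeff 0 = b * c := by
          rw [hbc, coeff_zero_eq_eval_zero, eval_mul]; simp
        rw [← this]; exact ha0
      have hb : b ≠ 0 := by rintro rfl; simp at habc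
      have hc : c ≠ 0 := by rintro rfl; simp at habc
      have hp : p = (X - C a) * ((X - C b) * (X - C c)) := by rw [hpr, hbc]
      have hroot : ∀ {z : F}, z ≠ 0 → X - C z ∣ (X ^ (q - 1) - C 1 : F[X]) := fun {z} hz =>
        sub_C_dvd (FiniteField.pow_card_sub_one_eq_one z hz)
      have hcop : ∀ {z w : F}, z ≠ w → IsCoprime (X - C z) (X - C w) := fun {z w} h =>
        isCoprime_X_sub_C_of_isUnit_sub (sub_ne_zero.mpr h).isUnit
      -- double root
      have hdouble : ∀ {z w : F}, z ≠ 0 → w ≠ 0 → z ≠ w → z * (z * w) = 1 →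
          (X - C z) * ((X - C z) * (X - C w)) ∣ (X ^ (2 * ee q) - C ((z ^ ee q) ^ 2) : F[X]) := by
        intro z w hz hw hzw h
        have e1 : (X ^ (2 * ee q) - C ((z ^ ee q) ^ 2) : F[X]) = (X ^ ee q - C (z ^ ee q)) ^ 2 := by
          rw [sub_pow_char_of_commute 2 (Commute.all _ _), C_pow, C_pow]
          ring
        have e2 : w ^ ee q = z ^ ee q := by
          have h7 := pow_three_ee hz
          rw [← hq] at h7
          have h8 : (z * (z * w)) ^ ee q = 1 := by rw [h, one_pow]
          have h9 : (z ^ ee q) ^ 2 ≠ 0 := pow_ne_zero _ (pow_ne_zero _ hz)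
          apply mul_left_cancel₀ h9
          calc (z ^ ee q) ^ 2 * w ^ ee q = (z * (z * w)) ^ ee q := by rw [mul_pow, mul_pow]; ring
            _ = z ^ (3 * ee q) := by rw [h8, h7]
            _ = (z ^ ee q) ^ 2 * z ^ ee q := by rw [mul_comm 3, pow_mul]; ring
        have d1 : (X - C z) ∣ (X ^ ee q - C (z ^ ee q) : F[X]) := sub_C_dvd rfl
        have d2 : (X - C w) ∣ (X ^ ee q - C (z ^ ee q) : F[X]) := sub_C_dvd e2
        rw [e1, ← mul_assoc, ← pow_two]
        apply IsCoprime.mul_dvd
        · exact IsCoprime.pow_left (hcop hzw)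
        · exact pow_dvd_pow_of_dvd d1 2
        · exact d2.trans (dvd_pow_self _ two_ne_zero)
      by_cases hab : a = b
      · by_cases hac : a = c
        · -- all equal
          right; right; right; right
          refine ⟨a ^ 4, ?_⟩
          have e1 : (X ^ 4 - C (a ^ 4) : F[X]) = (X - C a) ^ 4 := by
            have : (X - C a : F[X]) ^ 2 = X ^ 2 - C a ^ 2 := sub_pow_char_of_commute 2 (Commute.all _ _)
            rw [show (X - C a : F[X]) ^ 4 = ((X - C a) ^ 2) ^ 2 by ring, this,
              sub_pow_char_of_commute 2 (Commute.all _ _), ← pow_mul, ← pow_mul, C_pow]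
          rw [hp, ← hab, ← hac, e1]
          exact ⟨X - C a, by ring⟩
        · right; right; right; left
          refine ⟨(a ^ ee q) ^ 2, ?_⟩
          rw [hp, ← hab]
          exact hdouble ha hc hac (by rw [hab] at habc ⊢; exact habc)
      · by_cases hac : a = c
        · right; right; right; left
          refine ⟨(a ^ ee q) ^ 2, ?_⟩
          have := hdouble ha hb hab (by rw [← hac] at habc; linear_combination habc)
          rw [hp, ← hac]
          convert this using 1
          ring
        · by_cases hbc' : b = c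
          · right; right; right; left
            refine ⟨(b ^ ee q) ^ 2, ?_⟩
            have := hdouble hb ha (Ne.symm hab) (by rw [← hbc'] at habc; linear_combination habc)
            rw [hp, ← hbc']
            convert this using 1
            ring
          · right; right; left
            refine ⟨1, ?_⟩
            rw [hp]
            apply IsCoprime.mul_dvd
            · exact IsCoprime.mul_right (hcop hab) (hcop hac)
            · exact hroot ha
            · exact (hcop hbc').mul_dvd (hroot hb) (hroot hc)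

end

end Cfsg.Agent.H375.LThree
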