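import Mathlib
import Cfsg.Agent.H375.LThree.OuterBasic
import Cfsg.Agent.H375.Reduce

set_option autoImplicit false
set_option linter.unusedSectionVars false

/-!
# Groups between `PSL(3, q)` and its automorphism group, `q` even

`eq_inner`: a group `A` with `Inn L ≤ A ≤ Aut L`, `L = PSL(3, q)`, `q` even, whose element orders are element orders
of `L`, is `Inn L`.
-/

namespace Cfsg.Agent.H375.LThree

open Matrix Cfsg.Agent.ClassicalGeometry.AutPSL.Auto Cfsg.Agent.ClassicalGeometry.AutPSL.Root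
  Cfsg.Agent.ClassicalGeometry.AutPSL.Main

section NT

/-- geometric sums -/
def gs (k n : ℕ) : ℕ := ∑ i ∈ Finset.range n, k ^ i

theorem gs_succ (k n : ℕ) : gs k (n + 1) = 1 + k * gs k n := by
  unfold gs
  rw [Finset.sum_range_succ', pow_zero, add_comm, Finset.mul_sum]
  congr 1
  apply Finset.sum_congr rfl
  intro i _
  rw [pow_succ']

theorem gs_add (k m n : ℕ) : gs k (m + n) = gs k m + k ^ m * gs k n := by
  unfold gs
  rw [Finset.sum_range_add, Finset.mul_sum]
  congr 1
  apply Finset.sum_congr rfl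
  intro i _
  rw [pow_add]

theorem gs_mul {N k l : ℕ} (h : k ^ l ≡ 1 [MOD N]) (n : ℕ) : gs k (l * n) ≡ n * gs k l [MOD N] := by
  induction n with
  | zero =>
    have : gs k (l * 0) = 0 := by simp [gs]
    rw [this, zero_mul]
  | succ n ih =>
    rw [mul_add, mul_one, add_comm (l * n) l, gs_add, add_mul, one_mul, add_comm (n * gs k l)]
    apply Nat.ModEq.add_left
    calc k ^ l * gs k (l * n) ≡ 1 * (n * gs k l) [MOD N] := Nat.ModEq.mul h ih
      _ = n * gs k l := one_mul _

theorem nt_false {e k l : ℕ} (he : ¬ 2 ∣ e) (hl : l.Prime) (hl2 : l ≠ 2) (hle : l ∣ 2 * e)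
    (hk : k ^ l ≡ 1 [MOD 3 * e]) (h : 3 * e ∣ gs k (2 * e)) : False := by
  have he0 : 0 < e := Nat.pos_of_ne_zero (by rintro rfl; exact he (dvd_zero 2))
  obtain ⟨n, hn⟩ := hle
  rw [hn] at h
  have h1 := (gs_mul hk n).dvd_iff (dvd_refl _) |>.mp h
  -- `3 e ∣ n s`, multiply by `l`
  have h2 : e * (3 * l) ∣ e * (2 * gs k l) := by
    have h3 : l * (3 * e) ∣ l * (n * gs k l) := Nat.mul_dvd_mul_left l h1
    have e1 : l * (n * gs k l) = e * (2 * gs k l) := by rw [← mul_assoc, ← hn]; ring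
    have e2 : l * (3 * e) = e * (3 * l) := by ring
    rwa [e1, e2] at h3
  have h3 : 3 * l ∣ 2 * gs k l := Nat.dvd_of_mul_dvd_mul_left he0 h2
  have hlodd : Nat.Coprime 2 l := (Nat.coprime_primes Nat.prime_two hl).mpr (Ne.symm hl2)
  have h4 : 3 * l ∣ gs k l :=
    Nat.Coprime.dvd_of_dvd_mul_left (Nat.Coprime.mul_left (by norm_num) hlodd.symm) h3
  by_cases h3l : l = 3
  · subst h3l
    have h5 : gs k 3 = 1 + k + k ^ 2 := by simp [gs, Finset.sum_range_succ]
    rw [h5] at h4
    have h6 : (1 + k + k ^ 2) % 9 = 0 := Nat.mod_eq_zero_of_dvd h4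
    have h7 : k % 9 = 0 ∨ k % 9 = 1 ∨ k % 9 = 2 ∨ k % 9 = 3 ∨ k % 9 = 4 ∨ k % 9 = 5 ∨ k % 9 = 6 ∨ k % 9 = 7 ∨
      k % 9 = 8 := by omega
    rcases h7 with h | h | h | h | h | h | h | h | h <;>
      simp [Nat.add_mod, Nat.pow_mod, h] at h6
  · have h5 : 3 ∣ gs k l := (Dvd.intro _ rfl).trans h4
    have h6 : k ^ l ≡ 1 [MOD 3] := hk.of_mul_right e
    have h7 : k ≡ 1 [MOD 3] := by
      obtain ⟨j, hj⟩ := hl.odd_of_ne_two hl2
      have h8 : k % 3 = 0 ∨ k % 3 = 1 ∨ k % 3 = 2 := by omega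
      rcases h8 with h | h | h
      · exfalso
        have h9 : k ^ l ≡ 0 ^ l [MOD 3] := Nat.ModEq.pow l h
        rw [zero_pow hl.ne_zero] at h9
        have := h9.symm.trans h6
        norm_num [Nat.ModEq] at this
      · exact h
      · exfalso
        have h9 : k ^ l ≡ 2 ^ l [MOD 3] := Nat.ModEq.pow l h
        have h10 : 2 ^ l ≡ 2 [MOD 3] := by
          rw [hj, pow_succ, pow_mul]
          have : (2 ^ 2) ^ j ≡ 1 ^ j [MOD 3] := Nat.ModEq.pow j (by norm_num [Nat.ModEq])
          rw [one_pow] at this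
          calc (2 ^ 2) ^ j * 2 ≡ 1 * 2 [MOD 3] := Nat.ModEq.mul_right 2 this
            _ = 2 := by norm_num
        have := (h10.symm.trans h9.symm).trans h6
        norm_num [Nat.ModEq] at this
    have h8 : gs k l ≡ l [MOD 3] := by
      unfold gs
      have h9 : ∀ n : ℕ, ∑ i ∈ Finset.range n, k ^ i ≡ n [MOD 3] := by
        intro n
        induction n with
        | zero => simp; rfl
        | succ n ih =>
          rw [Finset.sum_range_succ]
          have : k ^ n ≡ 1 ^ n [MOD 3] := Nat.ModEq.pow n h7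
          rw [one_pow] at this
          exact Nat.ModEq.add ih this
      exact h9 l
    have h9 : 3 ∣ l := (h8.dvd_iff (dvd_refl 3)).mp h5
    exact h3l ((Nat.prime_dvd_prime_iff_eq Nat.prime_three hl).mp h9).symm

/-- even members of the spectrum -/
theorem om_even {q m : ℕ} (hq : 2 ∣ q) (hq1 : 1 < q) (h : Om q m) (h2 : 2 ∣ m) : m ∣ 2 * ee q ∨ m ∣ 4 := by
  have hee : ¬ 2 ∣ q - 1 := by omega
  have hqe : ee q ∣ q - 1 := ⟨dd q, by rw [mul_comm]; exact (dd_mul_ee q).symm⟩
  rcases h with h | h | h | h | h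
  · exfalso
    have h3 : 2 ∣ q ^ 2 + q + 1 := (h2.trans h).trans ⟨dd q, by rw [mul_comm]; exact (dd_mul_nn q hq1.le).symm⟩
    have h4 : 2 ∣ q ^ 2 + q := (dvd_pow hq (by norm_num)).add hq
    omega
  · exfalso
    have h3 : 2 ∣ (q + 1) * ee q := h2.trans h
    rcases (Nat.prime_two.dvd_mul).mp h3 with h4 | h4
    · omega
    · exact hee (h4.trans hqe)
  · exact absurd (h2.trans h) hee
  · exact Or.inl h
  · exact Or.inr h

end NT

variable {F : Type*} [Field F] [Fintype F] [CharP F 2]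

/-- Upper triangular matrices with diagonal `(x, 1, 1)`. -/
def ut (x y z t : F) (hx : x ≠ 0) : GL (Fin 3) F :=
  Matrix.GeneralLinearGroup.mkOfDetNeZero !![x, y, z; 0, 1, t; 0, 0, 1] (by
    have : (!![x, y, z; 0, 1, t; 0, 0, 1] : Matrix (Fin 3) (Fin 3) F).det = x := by
      rw [det_fin_three]; simp
    rw [this]; exact hx)

theorem coe_ut (x y z t : F) (hx : x ≠ 0) :
    (ut x y z t hx : Matrix (Fin 3) (Fin 3) F) = !![x, y, z; 0, 1, t; 0, 0, 1] := rfl

theorem det_ut (x y z t : F) (hx : x ≠ 0) : (ut x y z t hx : Matrix (Fin 3) (Fin 3) F).det = x := by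
  rw [coe_ut, det_fin_three]; simp

theorem ut_mul (x y z t x' y' z' t' : F) (hx : x ≠ 0) (hx' : x' ≠ 0) :
    ut x y z t hx * ut x' y' z' t' hx' =
      ut (x * x') (x * y' + y) (x * z' + y * t' + z) (t' + t) (mul_ne_zero hx hx') := by
  apply Units.ext
  rw [Units.val_mul, coe_ut, coe_ut, coe_ut]
  ext i j
  fin_cases i <;> fin_cases j <;> simp [Matrix.mul_apply, Fin.sum_univ_succ]
  ring

theorem sg_ut (σ : F ≃+* F) (x y z t : F) (hx : x ≠ 0) :
    sg σ (ut x y z t hx) = ut (σ x) (σ y) (σ z) (σ t) ((map_ne_zero σ).mpr hx) := by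
  apply Units.ext
  ext i j
  rw [sg_apply, coe_ut, coe_ut]
  fin_cases i <;> fin_cases j <;> simp

/-- trivial action -/
theorem ut_of_lift {x y z t : F} {hx : x ≠ 0} {σ : F ≃+* F} (h : lift (cj (ut x y z t hx) * fld σ) = 1) :
    x = 1 ∧ y = 0 ∧ z = 0 ∧ t = 0 ∧ σ = 1 := by
  have h1 : lift (cj (ut x y z t hx) * fld σ) = lift (fld (1 : F ≃+* F)) := by
    rw [h, map_one, map_one]
  obtain ⟨⟨r, hr⟩, hσ⟩ := injective_aux h1
  rw [coe_ut] at hr
  have e00 := congrFun (congrFun hr 0) 0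
  have e01 := congrFun (congrFun hr 0) 1
  have e02 := congrFun (congrFun hr 0) 2
  have e11 := congrFun (congrFun hr 1) 1
  have e12 := congrFun (congrFun hr 1) 2
  simp at e00 e01 e02 e11 e12
  exact ⟨by rw [← e00, e11], e01.symm, e02.symm, e12.symm, hσ⟩

theorem add_self_eq_zero' (x : F) : x + x = 0 := by
  rw [← two_mul, two_eq_zero', zero_mul]

/-- Elements of order eight. -/
theorem order_eight {β : MulAut (Matrix.ProjectiveSpecialLinearGroup (Fin 3) F)} {x y z : F} (hx : x ≠ 0)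
    (hy : y ≠ 0) (h : β * β = lift (cj (ut 1 x z y one_ne_zero))) : orderOf β = 8 := by
  have h2 : β ^ 4 = lift (cj (ut 1 0 (x * y) 0 one_ne_zero)) := by
    have : β ^ 4 = (β * β) * (β * β) := by simp only [pow_succ, pow_zero, one_mul, mul_assoc]
    rw [this, h, ← map_mul, ← map_mul, ut_mul]
    congr 3
    · exact one_mul _
    · rw [one_mul, add_self_eq_zero']
    · rw [one_mul]
      have := add_self_eq_zero' z
      linear_combination this
    · exact add_self_eq_zero' y
  have e : (8 : ℕ) = 2 ^ (2 + 1) := by norm_num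
  rw [e]
  apply orderOf_eq_prime_pow
  · intro h4
    have h4' : lift (cj (ut 1 0 (x * y) 0 one_ne_zero) * fld (1 : F ≃+* F)) = 1 := by
      rw [map_one fld, mul_one, ← h2]
      exact h4
    exact mul_ne_zero hx hy (ut_of_lift h4').2.2.1
  · have : β ^ 2 ^ (2 + 1) = β ^ 4 * β ^ 4 := by rw [← pow_add]; norm_num
    rw [this, h2, ← map_mul, ← map_mul, ut_mul]
    have e1 : ut (1 * 1) (1 * 0 + 0) (1 * (x * y) + 0 * 0 + x * y) (0 + 0)
        (mul_ne_zero (one_ne_zero (α := F)) one_ne_zero) = 1 := by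
      apply Units.ext
      rw [coe_ut]
      have := add_self_eq_zero' (x * y)
      ext i j
      fin_cases i <;> fin_cases j <;> simp [this]
    rw [e1, map_one, map_one]

variable (A : Subgroup (MulAut (Matrix.ProjectiveSpecialLinearGroup (Fin 3) F)))
  (hA : (MulAut.conj : Matrix.ProjectiveSpecialLinearGroup (Fin 3) F →* _).range ≤ A)
  (hω : ∀ α ∈ A, Om (Fintype.card F) (orderOf α))

omit [Fintype F] [CharP F 2] in
theorem fmul (C P : GL (Fin 3) F) (σ τ : F ≃+* F) :
    (cj C * fld σ) * (cj P * fld τ) = cj (C * sg σ P) * fld (σ * τ) := by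
  rw [map_mul cj, map_mul fld, mul_assoc, ← mul_assoc (fld σ), fld_mul_cj]
  simp only [mul_assoc]

include hA hω in
/-- **Diagonal automorphisms.** -/
theorem cube_of_mem {B : GL (Fin 3) F} (h : lift (cj B) ∈ A) :
    ∃ f : F, f ≠ 0 ∧ (B : Matrix (Fin 3) (Fin 3) F).det = f ^ 3 := by
  have hq1 : 1 < Fintype.card F := Fintype.one_lt_card
  set c := (B : Matrix (Fin 3) (Fin 3) F).det with hc
  have hc0 : c ≠ 0 := (Matrix.isUnits_det_units B).ne_zero
  have h1 : lift (cj (ut c 0 0 1 hc0) * 1) ∈ A := by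
    apply mem_of_det A hA (B := B) (X := 1) (by rw [mul_one]; exact h) one_ne_zero
    rw [det_ut, one_pow, mul_one]
  rw [mul_one] at h1
  have hpow : ∀ n : ℕ, ∃ hn, (lift (cj (ut c 0 0 1 hc0))) ^ n = lift (cj (ut (c ^ n) 0 0 (n : F) hn)) := by
    intro n
    refine ⟨pow_ne_zero n hc0, ?_⟩
    rw [← map_pow, ← map_pow]
    congr 2
    induction n with
    | zero =>
      apply Units.ext
      rw [coe_ut]
      ext i j
      fin_cases i <;> fin_cases j <;> simp
    | succ n ih =>
      rw [pow_succ, ih, ut_mul]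
      congr 1
      · rw [pow_succ]
      · simp
      · simp
      · push_cast; ring
  set m := orderOf (lift (cj (ut c 0 0 1 hc0))) with hm
  obtain ⟨hn, h2⟩ := hpow m
  have hm1 := pow_orderOf_eq_one (lift (cj (ut c 0 0 1 hc0)))
  rw [← hm] at hm1
  have h3 := ut_of_lift (hx := hn) (y := 0) (z := 0) (t := (m : F)) (σ := (1 : F ≃+* F))
    (by rw [map_one fld, mul_one]; exact h2.symm.trans hm1)
  have h2m : 2 ∣ m := (CharP.cast_eq_zero_iff F 2 m).mp h3.2.2.2.1
  rcases om_even card_even hq1 (hω _ h1) h2m with h4 | h4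
  · obtain ⟨f, hf, hf3⟩ := exists_cube hc0 (pow_eq_one_of_two_mul (n := ee (Fintype.card F)) (by
      obtain ⟨j, hj⟩ := h4
      rw [hj, pow_mul, h3.1, one_pow]))
    exact ⟨f, hf, hf3⟩
  · have h5 : c ^ 4 = 1 := by
      obtain ⟨j, hj⟩ := h4
      rw [hj, pow_mul, h3.1, one_pow]
    have h6 : c = 1 := by
      have h7 : c ^ 1 = 1 := pow_eq_one_of_two_mul (n := 1) (pow_eq_one_of_two_mul (n := 2 * 1) (by
        rw [← mul_assoc]; exact h5))
      rwa [pow_one] at h7
    exact ⟨1, one_ne_zero, by rw [one_pow]; exact h6⟩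

include hA hω in
/-- **Field automorphisms of order two.** -/
theorem field_two {B : GL (Fin 3) F} {σ : F ≃+* F} (h : lift (cj B * fld σ) ∈ A) (hσ : σ * σ = 1) : σ = 1 := by
  by_contra hne
  have hss : ∀ x, σ (σ x) = x := fun x => congrArg (fun f : F ≃+* F => f x) hσ
  obtain ⟨t, ht⟩ : ∃ t, σ t ≠ t := by
    by_contra hcon
    push Not at hcon
    exact hne (RingEquiv.ext hcon)
  set c := (B : Matrix (Fin 3) (Fin 3) F).det with hc
  have hc0 : c ≠ 0 := (Matrix.isUnits_det_units B).ne_zero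
  have hσc0 : σ c ≠ 0 := (map_ne_zero σ).mpr hc0
  -- `c σ(c)` is a cube
  obtain ⟨f, hf, hf3⟩ : ∃ f : F, f ≠ 0 ∧ c * σ c = f ^ 3 := by
    have h1 := A.mul_mem h h
    rw [← map_mul, fmul, hσ, map_one fld, mul_one] at h1
    obtain ⟨f, hf, hf3⟩ := cube_of_mem A hA hω h1
    refine ⟨f, hf, ?_⟩
    rw [← hf3, Units.val_mul, det_mul, ← hc]
    congr 1
    have : (sg σ B : Matrix (Fin 3) (Fin 3) F) = (B : Matrix (Fin 3) (Fin 3) F).map (σ : F →+* F) := rfl
    rw [this]
    exact (RingHom.map_det (σ : F →+* F) _)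
  -- the element `e = c ^ 2`
  set x := c ^ 2 * ((σ c) ^ 2)⁻¹ with hx
  have hx0 : x ≠ 0 := mul_ne_zero (pow_ne_zero 2 hc0) (inv_ne_zero (pow_ne_zero 2 hσc0))
  have h1 : lift (cj (ut x (c ^ 2 * t) 0 t hx0) * fld σ) ∈ A := by
    apply mem_of_det A hA h (f := c * (f ^ 2)⁻¹) (mul_ne_zero hc0 (inv_ne_zero (pow_ne_zero 2 hf)))
    rw [det_ut, ← hc, hx]
    field_simp
    linear_combination (-(c * σ c) - f ^ 3) * hf3
  have h2 := A.mul_mem h1 h1
  have h3 := order_eight (x := c ^ 2 * (σ t + t)) (y := σ t + t) (z := c ^ 2 * t * σ t)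
    (β := lift (cj (ut x (c ^ 2 * t) 0 t hx0) * fld σ)) ?_ ?_ ?_
  · have h4 := hω _ h1
    rw [h3] at h4
    rcases om_even card_even Fintype.one_lt_card h4 (by norm_num) with h5 | h5
    · have h6 : ¬ 2 ∣ ee (Fintype.card F) := fun h7 =>
        sub_one_odd (F := F) (h7.trans ⟨dd (Fintype.card F), by rw [mul_comm]; exact (dd_mul_ee _).symm⟩)
      omega
    · norm_num at h5
  · apply mul_ne_zero (pow_ne_zero 2 hc0)
    intro h0
    apply ht
    have := add_self_eq_zero' t
    linear_combination h0 - this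
  · intro h0
    apply ht
    have := add_self_eq_zero' t
    linear_combination h0 - this
  · rw [← map_mul, fmul, hσ, map_one fld, mul_one, sg_ut, ut_mul]
    congr 3
    · rw [hx, map_mul, map_pow, map_inv₀, map_pow, hss]
      field_simp
    · rw [hx, map_mul, map_pow]
      field_simp
    · simp

include hA hω in
/-- **Field automorphisms of odd prime order.** -/
theorem field_odd {B : GL (Fin 3) F} {σ : F ≃+* F} (h : lift (cj B * fld σ) ∈ A) {l : ℕ} (hl : l.Prime)
    (hl2 : l ≠ 2) (hσ : orderOf σ = l) : False := by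
  classical
  have hq1 : 1 < Fintype.card F := Fintype.one_lt_card
  have hfl : Fact l.Prime := ⟨hl⟩
  have hσl : σ ^ l = 1 := by rw [← hσ, pow_orderOf_eq_one]
  have hσ1 : σ ≠ 1 := by
    rintro rfl
    rw [orderOf_one] at hσ
    exact hl.one_lt.ne hσ
  have hee : ¬ 2 ∣ ee (Fintype.card F) := fun h7 =>
    sub_one_odd (F := F) (h7.trans ⟨dd (Fintype.card F), by rw [mul_comm]; exact (dd_mul_ee _).symm⟩)
  set c := (B : Matrix (Fin 3) (Fin 3) F).det with hc
  have hc0 : c ≠ 0 := (Matrix.isUnits_det_units B).ne_zero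
  by_cases hcube : ∃ f : F, f ≠ 0 ∧ c = f ^ 3
  · -- elements of order `4 l`
    obtain ⟨f, hf, hf3⟩ := hcube
    have h1 : lift (cj 1 * fld σ) ∈ A := by
      apply mem_of_det A hA h (f := f⁻¹) (inv_ne_zero hf)
      rw [Units.val_one, det_one, ← hc, hf3, inv_pow, mul_inv_cancel₀ (pow_ne_zero 3 hf)]
    rw [map_one cj, one_mul] at h1
    have h2 : lift (cj (ut (1 : F) 1 0 1 one_ne_zero)) ∈ A :=
      hA ⟨_, (lift_cj_mem _ (det_ut _ _ _ _ _)).symm⟩
    have h3 : orderOf (lift (fld σ) : MulAut (Matrix.ProjectiveSpecialLinearGroup (Fin 3) F)) = l := by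
      apply orderOf_eq_prime
      · rw [← map_pow, ← map_pow, hσl, map_one, map_one]
      · intro h4
        have h5 := ut_of_lift (x := (1 : F)) (y := 0) (z := 0) (t := 0) (hx := one_ne_zero) (σ := σ) (by
          have : ut (1 : F) 0 0 0 one_ne_zero = 1 := by
            apply Units.ext
            rw [coe_ut]
            ext i j
            fin_cases i <;> fin_cases j <;> simp
          rw [this, map_one cj, one_mul, h4])
        exact hσ1 h5.2.2.2.2
    have h4 : orderOf (lift (cj (ut (1 : F) 1 0 1 one_ne_zero))) = 4 := by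
      have e1 : (lift (cj (ut (1 : F) 1 0 1 one_ne_zero))) ^ 2 = lift (cj (ut 1 0 1 0 one_ne_zero)) := by
        rw [pow_two, ← map_mul, ← map_mul, ut_mul]
        have := add_self_eq_zero' (1 : F)
        congr 3 <;> simp [this]
      have e : (4 : ℕ) = 2 ^ (1 + 1) := by norm_num
      rw [e]
      apply orderOf_eq_prime_pow
      · rw [pow_one, e1]
        intro h5
        have h6 := ut_of_lift (x := (1 : F)) (y := 0) (z := 1) (t := 0) (hx := one_ne_zero) (σ := 1) (by
          rw [map_one fld, mul_one, h5])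
        exact one_ne_zero h6.2.2.1
      · have e2 : (lift (cj (ut (1 : F) 1 0 1 one_ne_zero))) ^ 2 ^ (1 + 1) =
            (lift (cj (ut (1 : F) 1 0 1 one_ne_zero))) ^ 2 * (lift (cj (ut (1 : F) 1 0 1 one_ne_zero))) ^ 2 := by
          rw [← pow_add]; norm_num
        rw [e2, e1, ← map_mul, ← map_mul, ut_mul]
        have e3 : ut (1 * 1) (1 * 0 + 0) (1 * 1 + 0 * 0 + 1) (0 + 0)
            (mul_ne_zero (one_ne_zero (α := F)) one_ne_zero) = 1 := by
          apply Units.ext
          rw [coe_ut]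
          have := add_self_eq_zero' (1 : F)
          ext i j
          fin_cases i <;> fin_cases j <;> simp [this]
        rw [e3, map_one, map_one]
    have hcomm : Commute (lift (cj (ut (1 : F) 1 0 1 one_ne_zero)))
        (lift (fld σ) : MulAut (Matrix.ProjectiveSpecialLinearGroup (Fin 3) F)) := by
      show _ * _ = _ * _
      rw [← map_mul, ← map_mul, fld_mul_cj, sg_ut]
      congr 3
      simp
    have h5 : orderOf (lift (cj (ut (1 : F) 1 0 1 one_ne_zero)) * lift (fld σ)) = 4 * l := by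
      rw [hcomm.orderOf_mul_eq_mul_orderOf_of_coprime, h3, h4]
      rw [h3, h4]
      exact Nat.Coprime.pow_left 2 ((Nat.coprime_primes Nat.prime_two hl).mpr (Ne.symm hl2))
    have h6 := hω _ (A.mul_mem h2 h1)
    rw [h5] at h6
    rcases om_even card_even hq1 h6 ⟨2 * l, by ring⟩ with h7 | h7
    · have h8 : 2 * 2 ∣ 2 * ee (Fintype.card F) := (Dvd.intro l rfl).trans h7
      exact hee (Nat.dvd_of_mul_dvd_mul_left (by norm_num) h8)
    · have h8 := Nat.le_of_dvd (by norm_num) h7
      have := hl.two_le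
      omega
  · -- non-cubes
    obtain ⟨g, hg⟩ := IsCyclic.exists_generator (α := Fˣ)
    have hog : orderOf g = Fintype.card F - 1 := by
      rw [orderOf_eq_card_of_forall_mem_zpowers hg, Nat.card_units, Nat.card_eq_fintype_card]
    -- a generator in the class of `c`
    obtain ⟨a, ha, f, hf, haf⟩ : ∃ a : Fˣ, orderOf a = Fintype.card F - 1 ∧ ∃ f : F, f ≠ 0 ∧ (a : F) = c * f ^ 3 := by
      obtain ⟨i, hi⟩ := Subgroup.mem_zpowers_iff.mp (hg (Units.mk0 c hc0))
      have hi3 : i % 3 = 0 ∨ i % 3 = 1 ∨ i % 3 = 2 := by omega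
      have hcv : c = ((g ^ i : Fˣ) : F) := by rw [hi, Units.val_mk0]
      rcases hi3 with h0 | h0 | h0
      · exfalso
        apply hcube
        obtain ⟨j, rfl⟩ : ∃ j, i = j * 3 := ⟨i / 3, by omega⟩
        refine ⟨((g ^ j : Fˣ) : F), Units.ne_zero _, ?_⟩
        rw [hcv, _root_.zpow_mul]
        norm_cast
      · obtain ⟨j, rfl⟩ : ∃ j, i = j * 3 + 1 := ⟨i / 3, by omega⟩
        refine ⟨g, hog, ((g ^ (-j) : Fˣ) : F), Units.ne_zero _, ?_⟩
        rw [hcv]
        have : g = g ^ (j * 3 + 1) * (g ^ (-j)) ^ 3 := by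
          rw [← _root_.zpow_natCast, ← _root_.zpow_mul, ← _root_.zpow_add]
          have : j * 3 + 1 + -j * ((3 : ℕ) : ℤ) = 1 := by push_cast; ring
          rw [this, _root_.zpow_one]
        have h1 := congrArg Units.val this
        rw [Units.val_mul, Units.val_pow_eq_pow_val] at h1
        exact h1
      · obtain ⟨j, rfl⟩ : ∃ j, i = j * 3 + 2 := ⟨i / 3, by omega⟩
        refine ⟨g⁻¹, by rw [orderOf_inv, hog], ((g ^ (-(j + 1)) : Fˣ) : F), Units.ne_zero _, ?_⟩
        rw [hcv]
        have : g⁻¹ = g ^ (j * 3 + 2) * (g ^ (-(j + 1))) ^ 3 := by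
          rw [← _root_.zpow_natCast, ← _root_.zpow_mul, ← _root_.zpow_add]
          have : j * 3 + 2 + -(j + 1) * ((3 : ℕ) : ℤ) = -1 := by push_cast; ring
          rw [this, _root_.zpow_neg_one]
        have h1 := congrArg Units.val this
        rw [Units.val_mul, Units.val_pow_eq_pow_val] at h1
        exact h1
    -- the exponent `k`
    obtain ⟨k, hk⟩ : ∃ k : ℕ, ∀ x : Fˣ, Units.map (σ : F →* F) x = x ^ k := by
      obtain ⟨m, hm⟩ := MonoidHom.map_cyclic (Units.map (σ : F →* F))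
      refine ⟨(m % (Nat.card Fˣ : ℤ)).toNat, fun x => ?_⟩
      have hpos : (0 : ℤ) < (Nat.card Fˣ : ℤ) := by exact_mod_cast Nat.card_pos
      rw [hm, ← _root_.zpow_natCast, Int.toNat_of_nonneg (Int.emod_nonneg _ hpos.ne')]
      conv_lhs => rw [← Int.emod_add_mul_ediv m (Nat.card Fˣ : ℤ), _root_.zpow_add, _root_.zpow_mul]
      rw [_root_.zpow_natCast x (Nat.card Fˣ), pow_card_eq_one', _root_.one_zpow, mul_one]
    have hk' : ∀ x : F, x ≠ 0 → σ x = x ^ k := by
      intro x hx
      have := congrArg Units.val (hk (Units.mk0 x hx))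
      rw [Units.val_pow_eq_pow_val, Units.val_mk0] at this
      exact this
    have ha0 : (a : F) ≠ 0 := a.ne_zero
    have h1 : lift (cj (ut (a : F) 0 0 1 ha0) * fld σ) ∈ A := by
      apply mem_of_det A hA h hf
      rw [det_ut, haf]
    have hpow : ∀ n : ℕ, ∃ hn, (lift (cj (ut (a : F) 0 0 1 ha0) * fld σ)) ^ n =
        lift (cj (ut ((a : F) ^ gs k n) 0 0 (n : F) hn) * fld (σ ^ n)) := by
      intro n
      refine ⟨pow_ne_zero _ ha0, ?_⟩
      rw [← map_pow]
      congr 1
      induction n with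
      | zero =>
        have : ut ((a : F) ^ gs k 0) 0 0 ((0 : ℕ) : F) (pow_ne_zero _ ha0) = 1 := by
          apply Units.ext
          rw [coe_ut]
          ext i j
          fin_cases i <;> fin_cases j <;> simp [gs]
        rw [this, pow_zero, pow_zero, map_one, map_one, one_mul]
      | succ n ih =>
        rw [pow_succ', ih, fmul, sg_ut, ut_mul, pow_succ' σ]
        congr 2
        congr 1
        · rw [hk' _ (pow_ne_zero _ ha0), ← pow_mul, ← pow_succ', gs_succ]
          congr 1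
          ring
        · simp
        · simp
        · rw [map_natCast]; push_cast; ring
    set m := orderOf (lift (cj (ut (a : F) 0 0 1 ha0) * fld σ)) with hm
    have triv : ∀ n : ℕ, (lift (cj (ut (a : F) 0 0 1 ha0) * fld σ)) ^ n = 1 →
        (a : F) ^ gs k n = 1 ∧ 2 ∣ n ∧ l ∣ n := by
      intro n hn
      obtain ⟨hn1, h2⟩ := hpow n
      have h3 := ut_of_lift (h2.symm.trans hn)
      refine ⟨h3.1, (CharP.cast_eq_zero_iff F 2 n).mp h3.2.2.2.1, ?_⟩
      rw [← hσ]
      exact orderOf_dvd_of_pow_eq_one h3.2.2.2.2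
    have hm1 := pow_orderOf_eq_one (lift (cj (ut (a : F) 0 0 1 ha0) * fld σ))
    rw [← hm] at hm1
    obtain ⟨-, h2m, hlm⟩ := triv m hm1
    rcases om_even card_even hq1 (hω _ h1) h2m with h4 | h4
    · obtain ⟨j, hj⟩ := h4
      have h5 := triv (2 * ee (Fintype.card F)) (by rw [hj, pow_mul, hm1, one_pow])
      -- `d = 3`
      have hd : dd (Fintype.card F) = 3 := by
        rcases dd_cases (Fintype.card F) with h6 | h6
        · exfalso
          apply hcube
          apply exists_cube hc0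
          have h7 := dd_mul_ee (Fintype.card F)
          rw [h6, one_mul] at h7
          rw [h7]
          exact FiniteField.pow_card_sub_one_eq_one c hc0
        · exact h6
      have h7 := dd_mul_ee (Fintype.card F)
      rw [hd] at h7
      have h8 : Fintype.card F - 1 ∣ gs k (2 * ee (Fintype.card F)) := by
        rw [← ha]
        apply orderOf_dvd_of_pow_eq_one
        apply Units.ext
        rw [Units.val_pow_eq_pow_val, h5.1, Units.val_one]
      rw [← h7] at h8
      refine nt_false hee hl hl2 h5.2.2 ?_ h8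
      -- `k ^ l = 1`
      have h9 : ∀ n : ℕ, (σ ^ n) (a : F) = (a : F) ^ (k ^ n) := by
        intro n
        induction n with
        | zero => simp
        | succ n ih =>
          rw [pow_succ']
          show σ ((σ ^ n) (a : F)) = _
          rw [ih, hk' _ (pow_ne_zero _ ha0), ← pow_mul, pow_succ]
      have h10 : a ^ (k ^ l) = a ^ 1 := by
        apply Units.ext
        rw [Units.val_pow_eq_pow_val, ← h9, hσl, pow_one]
        rfl
      rw [pow_eq_pow_iff_modEq, ha, ← h7] at h10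
      exact h10
    · have h5 := hlm.trans h4
      have h6 : l ∣ 2 ^ 2 := h5
      exact hl2 ((Nat.prime_dvd_prime_iff_eq hl Nat.prime_two).mp (hl.dvd_of_dvd_pow h6))

include hA hω in
/-- **Field automorphisms.** -/
theorem field_eq_one {B : GL (Fin 3) F} {σ : F ≃+* F} (h : lift (cj B * fld σ) ∈ A) : σ = 1 := by
  by_contra hne
  have hfin : Finite (F ≃+* F) := Finite.of_injective (fun f : F ≃+* F => (f : F → F)) DFunLike.coe_injective
  have hpow : ∀ n : ℕ, ∃ C : GL (Fin 3) F, (lift (cj B * fld σ)) ^ n = lift (cj C * fld (σ ^ n)) := by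
    intro n
    induction n with
    | zero => exact ⟨1, by rw [pow_zero, pow_zero, map_one, map_one, mul_one, map_one]⟩
    | succ n ih =>
      obtain ⟨C, hC⟩ := ih
      refine ⟨B * sg σ C, ?_⟩
      rw [pow_succ', hC, ← map_mul, fmul, pow_succ']
  have hn1 : orderOf σ ≠ 1 := fun h1 => hne (orderOf_eq_one_iff.mp h1)
  obtain ⟨l, hl, j, hj⟩ := Nat.exists_prime_and_dvd hn1
  have hpos := orderOf_pos σ
  have hj0 : j ≠ 0 := by rintro rfl; omega
  have h1 : orderOf (σ ^ j) = l := by
    rw [orderOf_pow' σ hj0, hj, Nat.gcd_mul_left_left, Nat.mul_div_cancel _ (Nat.pos_of_ne_zero hj0)]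
  obtain ⟨C, hC⟩ := hpow j
  have h2 : lift (cj C * fld (σ ^ j)) ∈ A := by rw [← hC]; exact A.pow_mem h j
  by_cases hl2 : l = 2
  · subst hl2
    have h3 := field_two A hA hω h2 (by rw [← pow_two, ← h1, pow_orderOf_eq_one])
    rw [h3, orderOf_one] at h1
    norm_num at h1
  · exact field_odd A hA hω h2 hl hl2 h1

end Cfsg.Agent.H375.LThree
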