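import Mathlib
import Cfsg.Agent.H375.Cover
import Cfsg.Agent.H375.LThree.Outer

set_option autoImplicit false
set_option linter.unusedSectionVars false

/-!
# Configurations in `PSL(3, q)`, `q` even

* `exists_four_inverting` : `x, y` with `x⁴ = 1`, `y` of odd prime order `r ∣ q + 1` and `x²` inverts `y`;
* `exists_fourSq` : `z₁`, `z₂`, with `z₁`, `z₂`, `z₁ z₂` squares of elements `x`, `x'` of order four, `x x'` of order
  four (`q > 2`).
-/

namespace Cfsg.Agent.H375.LThree

open Matrix Cfsg.Agent.ClassicalGeometry.AutPSL.Auto Cfsg.Agent.ClassicalGeometry.AutPSL.Root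
  Cfsg.Agent.ClassicalGeometry.AutPSL.Main Cfsg.Agent.H375.Cover

variable {F : Type*} [Field F] [Fintype F] [CharP F 2]

/-- The unitriangular matrices. -/
def un (a b c : F) : Matrix.SpecialLinearGroup (Fin 3) F :=
  ⟨!![1, a, c; 0, 1, b; 0, 0, 1], by rw [det_fin_three]; simp⟩

theorem coe_un (a b c : F) : (un a b c : Matrix (Fin 3) (Fin 3) F) = !![1, a, c; 0, 1, b; 0, 0, 1] := rfl

theorem un_mul (a b c a' b' c' : F) : un a b c * un a' b' c' = un (a + a') (b + b') (c + c' + a * b') := by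
  apply Subtype.ext
  rw [Matrix.SpecialLinearGroup.coe_mul, coe_un, coe_un, coe_un]
  ext i j
  fin_cases i <;> fin_cases j <;> simp [Matrix.mul_apply, Fin.sum_univ_succ] <;> ring

theorem un_sq (a b c : F) : un a b c ^ 2 = un 0 0 (a * b) := by
  rw [pow_two, un_mul, add_self_eq_zero', add_self_eq_zero', add_self_eq_zero', zero_add]

theorem un_zero : (un 0 0 0 : Matrix.SpecialLinearGroup (Fin 3) F) = 1 := by
  apply Subtype.ext
  rw [coe_un]
  ext i j
  fin_cases i <;> fin_cases j <;> simp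

theorem un_ne {a b c : F} (h : a ≠ 0 ∨ b ≠ 0 ∨ c ≠ 0) : pr (un a b c) ≠ 1 := by
  intro h1
  rw [pr_eq_one_iff, Matrix.SpecialLinearGroup.mem_center_iff] at h1
  obtain ⟨r, -, hr⟩ := h1
  rw [coe_un] at hr
  have e1 := congrFun (congrFun hr 0) 1
  have e2 := congrFun (congrFun hr 1) 2
  have e3 := congrFun (congrFun hr 0) 2
  simp at e1 e2 e3
  rcases h with h | h | h
  · exact h e1.symm
  · exact h e2.symm
  · exact h e3.symm

theorem orderOf_un {a b c : F} (h : a * b ≠ 0) : orderOf (pr (un a b c)) = 4 := by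
  have h1 : ¬ pr (un a b c) ^ 2 ^ 1 = 1 := by
    rw [pow_one, ← map_pow, un_sq]
    exact un_ne (Or.inr (Or.inr h))
  have h2 : pr (un a b c) ^ 2 ^ (1 + 1) = 1 := by
    have : pr (un a b c) ^ 2 ^ (1 + 1) = pr ((un a b c ^ 2) ^ 2) := by
      rw [← pow_mul, map_pow]; norm_num
    rw [this, un_sq, un_sq, zero_mul, un_zero, map_one]
  have : Fact (Nat.Prime 2) := ⟨Nat.prime_two⟩
  exact orderOf_eq_prime_pow h1 h2

theorem fourSq_un {s c : F} (hs0 : s ≠ 0) (hs1 : s ≠ 1) (hc : c ≠ 0) : FourSq (pr (un 0 0 c)) := by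
  have h1 : (1 : F) + s ≠ 0 := by
    intro h
    apply hs1
    have h2 : s = 1 + (1 + s) := by rw [← add_assoc, add_self_eq_zero', zero_add]
    rw [h2, h, add_zero]
  refine ⟨pr (un c 1 0), pr (un (c * s) s⁻¹ 0), ?_, ?_, ?_, ?_, ?_⟩
  · exact orderOf_un (by rw [mul_one]; exact hc)
  · exact orderOf_un (mul_ne_zero (mul_ne_zero hc hs0) (inv_ne_zero hs0))
  · rw [← map_mul, un_mul]
    apply orderOf_un
    have e1 : c + c * s = c * (1 + s) := by ring
    have e2 : 1 + s⁻¹ = s⁻¹ * (1 + s) := by field_simp; ring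
    rw [e1, e2]
    exact mul_ne_zero (mul_ne_zero hc h1) (mul_ne_zero (inv_ne_zero hs0) h1)
  · rw [← map_pow, un_sq, mul_one]
  · rw [← map_pow, un_sq]
    congr 2
    field_simp

/-- **Squares of elements of order four.** -/
theorem exists_fourSq (h4 : 4 ≤ Fintype.card F) : ∃ z₁ z₂ : Matrix.ProjectiveSpecialLinearGroup (Fin 3) F,
    FourSq z₁ ∧ FourSq z₂ ∧ FourSq (z₁ * z₂) := by
  classical
  obtain ⟨s, hs⟩ : ∃ s : F, s ∉ ({0, 1} : Finset F) := by
    by_contra hcon
    push Not at hcon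
    have h1 : (Finset.univ : Finset F) ⊆ {0, 1} := fun c _ => hcon c
    have h2 := Finset.card_le_card h1
    rw [Finset.card_univ] at h2
    have h3 : ({0, 1} : Finset F).card ≤ 2 := Finset.card_le_two
    omega
  simp only [Finset.mem_insert, Finset.mem_singleton, not_or] at hs
  obtain ⟨hs0, hs1⟩ := hs
  have h1 : (1 : F) + s ≠ 0 := by
    intro h
    apply hs1
    have h2 : s = 1 + (1 + s) := by rw [← add_assoc, add_self_eq_zero', zero_add]
    rw [h2, h, add_zero]
  refine ⟨pr (un 0 0 1), pr (un 0 0 s), fourSq_un hs0 hs1 one_ne_zero, fourSq_un hs0 hs1 hs0, ?_⟩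
  rw [← map_mul, un_mul, zero_add, zero_mul, add_zero]
  exact fourSq_un hs0 hs1 h1

/-! ### elements of order `r` -/

/-- the companion matrix -/
def comp (τ : F) : Matrix (Fin 2) (Fin 2) F := !![0, 1; 1, τ]

theorem det_comp (τ : F) : (comp τ).det = 1 := by
  unfold comp
  rw [det_fin_two]
  simp only [Matrix.of_apply, Matrix.cons_val', Matrix.cons_val_zero, Matrix.cons_val_one, Matrix.cons_val_fin_one]
  have h11 := add_self_eq_zero' (1 : F)
  linear_combination -h11

/-- A matrix of determinant one which is not the identity is conjugate to a companion matrix (odd order). -/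
theorem exists_conj_comp (Y : Matrix (Fin 2) (Fin 2) F) (hdet : Y.det = 1) (h1 : Y ≠ 1) :
    ∃ (P : Matrix (Fin 2) (Fin 2) F) (τ : F), P.det ≠ 0 ∧ Y * P = P * comp τ := by
  obtain ⟨a, b, c, d, rfl⟩ : ∃ a b c d, Y = !![a, b; c, d] := ⟨_, _, _, _, Matrix.eta_fin_two Y⟩
  rw [det_fin_two] at hdet
  simp only [Matrix.of_apply, Matrix.cons_val', Matrix.cons_val_zero, Matrix.cons_val_one,
    Matrix.cons_val_fin_one] at hdet
  have haa : ∀ x : F, x + x = 0 := add_self_eq_zero'
  by_cases hc : c = 0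
  · by_cases hb : b = 0
    · subst hb; subst hc
      refine ⟨!![1, a; 1, d], a + d, ?_, ?_⟩
      · rw [det_fin_two]
        simp only [Matrix.of_apply, Matrix.cons_val', Matrix.cons_val_zero, Matrix.cons_val_one,
          Matrix.cons_val_fin_one]
        intro h
        have hd : d = a := by linear_combination h
        subst hd
        apply h1
        have h3 : (d - 1) * (d - 1) = 0 := by linear_combination hdet - haa d + haa 1
        have h4 : d = 1 := by
          rcases mul_self_eq_zero.mp h3 with h5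
          linear_combination h5
        subst h4
        ext i j
        fin_cases i <;> fin_cases j <;> simp
      · ext i j
        fin_cases i <;> fin_cases j <;> simp [Matrix.mul_apply, Fin.sum_univ_succ, comp]
        · linear_combination -hdet - haa 1
        · linear_combination -hdet - haa 1
    · refine ⟨!![0, b; 1, d], a + d, ?_, ?_⟩
      · rw [det_fin_two]
        simp [hb]
      · subst hc
        ext i j
        fin_cases i <;> fin_cases j <;> simp [Matrix.mul_apply, Fin.sum_univ_succ, comp]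
        · ring
        · linear_combination -hdet - haa 1
  · refine ⟨!![1, a; 0, c], a + d, ?_, ?_⟩
    · rw [det_fin_two]
      simp [hc]
    · ext i j
      fin_cases i <;> fin_cases j <;> simp [Matrix.mul_apply, Fin.sum_univ_succ, comp]
      · linear_combination -hdet - haa 1
      · ring

theorem exists_gl_order {r : ℕ} (hr : r.Prime) (hrq : r ∣ Fintype.card F + 1) : ∃ Y : GL (Fin 2) F, orderOf Y = r := by
  have hcard := Matrix.card_GL_field (𝔽 := F) 2
  rw [Fin.prod_univ_two] at hcard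
  simp only [Fin.val_zero, pow_zero, Fin.val_one, pow_one] at hcard
  have h1 : r ∣ Nat.card (GL (Fin 2) F) := by
    rw [hcard]
    apply Dvd.dvd.mul_right
    apply hrq.trans
    exact ⟨Fintype.card F - 1, by have := Nat.sq_sub_sq (Fintype.card F) 1; rwa [one_pow] at this⟩
  have : Fact r.Prime := ⟨hr⟩
  exact exists_prime_orderOf_dvd_card' r h1

/-- the companion matrix in `GL₂` -/
def compG (τ : F) : GL (Fin 2) F :=
  ⟨comp τ, !![τ, 1; 1, 0], by
    ext i j
    fin_cases i <;> fin_cases j <;> simp [comp, Matrix.mul_apply, Fin.sum_univ_succ, add_self_eq_zero'], by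
    ext i j
    fin_cases i <;> fin_cases j <;> simp [comp, Matrix.mul_apply, Fin.sum_univ_succ, add_self_eq_zero']⟩

theorem coe_compG (τ : F) : ((compG τ : GL (Fin 2) F) : Matrix (Fin 2) (Fin 2) F) = comp τ := rfl

/-- Companion matrices of order `r`. -/
theorem exists_comp_order {r : ℕ} (hr : r.Prime) (hrq : r ∣ Fintype.card F + 1) :
    ∃ τ : F, orderOf (compG τ) = r := by
  obtain ⟨Y, hY⟩ := exists_gl_order hr hrq
  have hev : 2 ∣ Fintype.card F := by
    obtain ⟨k, -, hk⟩ := FiniteField.card F 2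
    rw [hk]; exact dvd_pow_self 2 k.ne_zero
  have hpos : 0 < Fintype.card F := Fintype.card_pos
  have hr2 : r ≠ 2 := by rintro rfl; omega
  have hdet : ((Y : GL (Fin 2) F) : Matrix (Fin 2) (Fin 2) F).det = 1 := by
    have h1 : (Matrix.GeneralLinearGroup.det Y) ^ r = 1 := by rw [← map_pow, ← hY, pow_orderOf_eq_one, map_one]
    have h2 : (Matrix.GeneralLinearGroup.det Y) ^ (Fintype.card F - 1) = 1 := by
      apply Units.ext
      rw [Units.val_pow_eq_pow_val, FiniteField.pow_card_sub_one_eq_one _ (Units.ne_zero _), Units.val_one]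
    have h3 : Nat.Coprime r (Fintype.card F - 1) := by
      rw [Nat.Prime.coprime_iff_not_dvd hr]
      intro h4
      have h5 : r ∣ 2 := by
        have h6 : Fintype.card F + 1 = (Fintype.card F - 1) + 2 := by omega
        rw [h6] at hrq
        exact (Nat.dvd_add_right h4).mp hrq
      exact hr2 ((Nat.prime_dvd_prime_iff_eq hr Nat.prime_two).mp h5)
    have h4 : orderOf (Matrix.GeneralLinearGroup.det Y) = 1 :=
      Nat.eq_one_of_dvd_coprimes h3 (orderOf_dvd_of_pow_eq_one h1) (orderOf_dvd_of_pow_eq_one h2)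
    have h5 := orderOf_eq_one_iff.mp h4
    have h6 := congrArg Units.val h5
    exact h6
  have hne : ((Y : GL (Fin 2) F) : Matrix (Fin 2) (Fin 2) F) ≠ 1 := by
    intro h
    have : Y = 1 := Units.ext h
    rw [this, orderOf_one] at hY
    exact hr.one_lt.ne hY
  obtain ⟨P, τ, hP, hPY⟩ := exists_conj_comp _ hdet hne
  refine ⟨τ, ?_⟩
  let P' : GL (Fin 2) F := Matrix.GeneralLinearGroup.mkOfDetNeZero P hP
  have h1 : Y * P' = P' * compG τ := Units.ext hPY
  have h2 : compG τ = P'⁻¹ * Y * P' := by rw [mul_assoc, h1, inv_mul_cancel_left]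
  have h3 : IsConj Y (compG τ) := isConj_iff.mpr ⟨P'⁻¹, by rw [inv_inv, h2]⟩
  rw [← hY]
  have h4 : compG τ = MulAut.conj P'⁻¹ Y := by rw [MulAut.conj_apply, inv_inv, h2]
  rw [h4]
  exact MulEquiv.orderOf_eq (MulAut.conj P'⁻¹) Y

/-- an element of order four -/
def xq (F : Type*) [Field F] [CharP F 2] : Matrix.SpecialLinearGroup (Fin 3) F :=
  ⟨!![1, 0, 1; 0, 1, 1; 1, 1, 1], by
    rw [det_fin_three]
    simp only [Matrix.of_apply, Matrix.cons_val', Matrix.cons_val_zero, Matrix.cons_val_one, Matrix.cons_val_fin_one,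
      Matrix.cons_val]
    have h2 : (2 : F) = 0 := CharTwo.two_eq_zero
    linear_combination -h2⟩

theorem coe_xq : ((xq F : Matrix.SpecialLinearGroup (Fin 3) F) : Matrix (Fin 3) (Fin 3) F) =
    !![1, 0, 1; 0, 1, 1; 1, 1, 1] := rfl

theorem xq_sq : ((xq F ^ 2 : Matrix.SpecialLinearGroup (Fin 3) F) : Matrix (Fin 3) (Fin 3) F) =
    !![0, 1, 0; 1, 0, 0; 0, 0, 1] := by
  rw [pow_two, Matrix.SpecialLinearGroup.coe_mul, coe_xq]
  ext i j
  fin_cases i <;> fin_cases j <;> simp [Matrix.mul_apply, Fin.sum_univ_succ, add_self_eq_zero']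

/-- **`x²` inverts `y`.** -/
theorem exists_four_inverting {r : ℕ} (hr : r.Prime) (hrq : r ∣ Fintype.card F + 1) :
    ∃ x y : Matrix.ProjectiveSpecialLinearGroup (Fin 3) F, x ^ 4 = 1 ∧ y ^ r = 1 ∧ y ≠ 1 ∧ x ^ 2 * y * (x ^ 2)⁻¹ = y⁻¹ := by
  obtain ⟨τ, hτ⟩ := exists_comp_order hr hrq
  have hsq2 : (xq F ^ 2) * (xq F ^ 2) = 1 := by
    apply Subtype.ext
    rw [Matrix.SpecialLinearGroup.coe_mul, xq_sq]
    ext i j
    fin_cases i <;> fin_cases j <;> simp [Matrix.mul_apply, Fin.sum_univ_succ]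
  have hemb : (emb (compG τ) : Matrix (Fin 3) (Fin 3) F) = !![0, 1, 0; 1, τ, 0; 0, 0, 1] := by
    show embM (comp τ) = _
    unfold embM
    rw [det_comp, inv_one]
    rfl
  refine ⟨pr (xq F), pr (emb (compG τ)), ?_, ?_, ?_, ?_⟩
  · rw [← map_pow, show (4 : ℕ) = 2 * 2 by norm_num, pow_mul, pow_two (xq F ^ 2), hsq2, map_one]
  · rw [← map_pow, ← map_pow, ← hτ, pow_orderOf_eq_one, map_one, map_one]
  · intro h
    rw [pr_eq_one_iff, Matrix.SpecialLinearGroup.mem_center_iff] at h
    obtain ⟨c, -, hc⟩ := h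
    rw [hemb] at hc
    have e1 := congrFun (congrFun hc 0) 1
    simp at e1
  · rw [← map_pow, ← map_inv, ← map_mul, ← map_mul, ← map_inv]
    congr 1
    have h1 : (xq F ^ 2)⁻¹ = xq F ^ 2 := inv_eq_of_mul_eq_one_right hsq2
    rw [h1]
    apply eq_inv_of_mul_eq_one_left
    apply Subtype.ext
    rw [Matrix.SpecialLinearGroup.coe_mul, Matrix.SpecialLinearGroup.coe_mul, Matrix.SpecialLinearGroup.coe_mul, xq_sq,
      hemb]
    ext i j
    fin_cases i <;> fin_cases j <;> simp [Matrix.mul_apply, Fin.sum_univ_succ, add_self_eq_zero']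

end Cfsg.Agent.H375.LThree
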