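import Mathlib
import Cfsg.Agent.H375.LThree.Spec
import Cfsg.Agent.H375.LThree.Outer

set_option autoImplicit false
set_option linter.unusedSectionVars false

/-!
# Arithmetic of the element orders of `PSL(3, q)`, `q` even
-/

namespace Cfsg.Agent.H375.LThree

/-- powers of two -/
def PowTwo (q : ℕ) : Prop := ∃ m : ℕ, 1 ≤ m ∧ q = 2 ^ m

theorem PowTwo.even {q : ℕ} (h : PowTwo q) : 2 ∣ q := by
  obtain ⟨m, hm, rfl⟩ := h
  exact dvd_pow_self 2 (by omega)

theorem PowTwo.two_le {q : ℕ} (h : PowTwo q) : 2 ≤ q := by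
  obtain ⟨m, hm, rfl⟩ := h
  calc 2 = 2 ^ 1 := by norm_num
    _ ≤ 2 ^ m := Nat.pow_le_pow_right (by norm_num) hm

/-- small values -/
theorem PowTwo.cases {q : ℕ} (h : PowTwo q) : q = 2 ∨ q = 4 ∨ q = 8 ∨ 16 ∣ q := by
  obtain ⟨m, hm, rfl⟩ := h
  rcases (show m = 1 ∨ m = 2 ∨ m = 3 ∨ 4 ≤ m by omega) with rfl | rfl | rfl | h
  · left; norm_num
  · right; left; norm_num
  · right; right; left; norm_num
  · right; right; right
    exact pow_dvd_pow 2 h

theorem PowTwo.mod_three {q : ℕ} (h : PowTwo q) : q % 3 = 1 ∨ q % 3 = 2 := by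
  obtain ⟨m, hm, rfl⟩ := h
  have h3 : ¬ 3 ∣ 2 ^ m := fun h => absurd (Nat.prime_three.dvd_of_dvd_pow h) (by norm_num)
  omega

theorem dd_eq_three_iff {q : ℕ} (hq : 1 ≤ q) : dd q = 3 ↔ q % 3 = 1 := by
  constructor
  · intro h
    have h1 := dd_dvd q
    rw [h] at h1
    omega
  · intro h
    have h1 : 3 ∣ q - 1 := by omega
    exact Nat.gcd_eq_left h1

theorem three_not_dvd_nn {q : ℕ} (h : PowTwo q) : ¬ 3 ∣ nn q := by
  have h1 := dd_mul_nn q (by have := h.two_le; omega)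
  rcases h.mod_three with h3 | h3
  · rw [(dd_eq_three_iff (by have := h.two_le; omega)).mpr h3] at h1
    intro h4
    have h5 : 9 ∣ q ^ 2 + q + 1 := by
      rw [← h1]
      obtain ⟨c, hc⟩ := h4
      exact ⟨c, by rw [hc]; ring⟩
    have h6 : (q ^ 2 + q + 1) % 9 = 0 := Nat.mod_eq_zero_of_dvd h5
    have h7 : q % 9 = 1 ∨ q % 9 = 4 ∨ q % 9 = 7 := by omega
    rcases h7 with h | h | h <;> simp [Nat.add_mod, Nat.pow_mod, h] at h6
  · rcases dd_cases q with hd | hd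
    · rw [hd, one_mul] at h1
      rw [h1]
      intro h4
      have h6 : (q ^ 2 + q + 1) % 3 = 0 := Nat.mod_eq_zero_of_dvd h4
      simp [Nat.add_mod, Nat.pow_mod, h3] at h6
    · exact absurd ((dd_eq_three_iff (by have := h.two_le; omega)).mp hd) (by omega)

theorem nn_dvd {q : ℕ} (hq : 1 ≤ q) : nn q ∣ q ^ 2 + q + 1 := ⟨dd q, by rw [mul_comm, dd_mul_nn q hq]⟩

theorem ee_dvd (q : ℕ) : ee q ∣ q - 1 := ⟨dd q, by rw [mul_comm, dd_mul_ee]⟩

theorem nn_odd {q : ℕ} (h : PowTwo q) : ¬ 2 ∣ nn q := by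
  intro h2
  have h3 := h2.trans (nn_dvd (q := q) (by have := h.two_le; omega))
  have h4 := h.even
  have h5 : 2 ∣ q ^ 2 + q := (dvd_pow h4 (by norm_num)).add h4
  omega

theorem seven_le_nn {q : ℕ} (h : PowTwo q) : 7 ≤ nn q := by
  have h1 := dd_mul_nn q (by have := h.two_le; omega)
  rcases h.cases with rfl | rfl | rfl | h16
  · have : nn 2 = 7 := by decide
    omega
  · have : nn 4 = 7 := by decide
    omega
  · have : nn 8 = 73 := by decide
    omega
  · have h2 : 16 ≤ q := Nat.le_of_dvd (by have := h.two_le; omega) h16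
    have h3 : 16 * 16 ≤ q ^ 2 := by nlinarith
    rcases dd_cases q with hd | hd <;> rw [hd] at h1 <;> omega

/-- primes of `nn q` -/
theorem prime_nn {q p : ℕ} (h : PowTwo q) (hp : p.Prime) (hpn : p ∣ nn q) :
    p ≠ 2 ∧ p ≠ 3 ∧ ¬ p ∣ q - 1 ∧ ¬ p ∣ q + 1 := by
  have h2 := h.two_le
  have h3 : p ≠ 3 := by rintro rfl; exact three_not_dvd_nn h hpn
  have h4 : p ∣ q ^ 2 + q + 1 := hpn.trans (nn_dvd (by omega))
  refine ⟨?_, h3, ?_, ?_⟩
  · rintro rfl; exact nn_odd h hpn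
  · intro h5
    obtain ⟨k, rfl⟩ : ∃ k, q = k + 1 := ⟨q - 1, by omega⟩
    rw [Nat.add_sub_cancel] at h5
    have h6 : (k + 1) ^ 2 + (k + 1) + 1 = k * (k + 3) + 3 := by ring
    rw [h6] at h4
    have h7 : p ∣ 3 := (Nat.dvd_add_right (h5.mul_right _)).mp h4
    exact h3 ((Nat.prime_dvd_prime_iff_eq hp Nat.prime_three).mp h7)
  · intro h5
    have h6 : q ^ 2 + q + 1 = q * (q + 1) + 1 := by ring
    rw [h6] at h4
    have h7 : p ∣ 1 := (Nat.dvd_add_right (h5.mul_left _)).mp h4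
    exact hp.one_lt.ne' (Nat.dvd_one.mp h7)

/-- primes of `q + 1` -/
theorem prime_qq {q p : ℕ} (h : PowTwo q) (hp : p.Prime) (hpn : p ∣ q + 1) :
    p ≠ 2 ∧ ¬ p ∣ q - 1 ∧ ¬ p ∣ nn q := by
  have h2 := h.two_le
  have h3 := h.even
  have hp2 : p ≠ 2 := by rintro rfl; omega
  refine ⟨hp2, ?_, fun h4 => (prime_nn h hp h4).2.2.2 hpn⟩
  intro h4
  have h5 : p ∣ 2 := by
    have h6 : q + 1 = (q - 1) + 2 := by omega
    rw [h6] at hpn
    exact (Nat.dvd_add_right h4).mp hpn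
  exact hp2 ((Nat.prime_dvd_prime_iff_eq hp Nat.prime_two).mp h5)

/-- members of the spectrum divisible by a prime of `nn q` -/
theorem om_nn {q p n : ℕ} (h : PowTwo q) (hp : p.Prime) (hpn : p ∣ nn q) (hn : Om q n) (hpd : p ∣ n) : n ∣ nn q := by
  obtain ⟨h2, h3, h4, h5⟩ := prime_nn h hp hpn
  rcases hn with h6 | h6 | h6 | h6 | h6
  · exact h6
  · rcases hp.dvd_mul.mp (hpd.trans h6) with h7 | h7
    · exact absurd h7 h5
    · exact absurd (h7.trans (ee_dvd q)) h4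
  · exact absurd (hpd.trans h6) h4
  · rcases hp.dvd_mul.mp (hpd.trans h6) with h7 | h7
    · exact absurd ((Nat.prime_dvd_prime_iff_eq hp Nat.prime_two).mp h7) h2
    · exact absurd (h7.trans (ee_dvd q)) h4
  · have h7 : p ∣ 2 ^ 2 := hpd.trans h6
    exact absurd ((Nat.prime_dvd_prime_iff_eq hp Nat.prime_two).mp (hp.dvd_of_dvd_pow h7)) h2

/-- members of the spectrum divisible by a prime of `q + 1` -/
theorem om_qq {q p n : ℕ} (h : PowTwo q) (hp : p.Prime) (hpn : p ∣ q + 1) (hn : Om q n) (hpd : p ∣ n) : n ∣ xx q := by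
  obtain ⟨h2, h4, h5⟩ := prime_qq h hp hpn
  rcases hn with h6 | h6 | h6 | h6 | h6
  · exact absurd (hpd.trans h6) h5
  · exact h6
  · exact absurd (hpd.trans h6) h4
  · rcases hp.dvd_mul.mp (hpd.trans h6) with h7 | h7
    · exact absurd ((Nat.prime_dvd_prime_iff_eq hp Nat.prime_two).mp h7) h2
    · exact absurd (h7.trans (ee_dvd q)) h4
  · have h7 : p ∣ 2 ^ 2 := hpd.trans h6
    exact absurd ((Nat.prime_dvd_prime_iff_eq hp Nat.prime_two).mp (hp.dvd_of_dvd_pow h7)) h2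

theorem xx_dvd {q : ℕ} (hq : 1 ≤ q) : xx q ∣ q ^ 2 - 1 := ⟨dd q, by rw [mul_comm, dd_mul_xx q hq]⟩

theorem xx_odd {q : ℕ} (h : PowTwo q) : ¬ 2 ∣ xx q := by
  intro h2
  have h3 := h.even
  have h4 := h.two_le
  rcases (Nat.prime_two.dvd_mul).mp h2 with h5 | h5
  · omega
  · have := h5.trans (ee_dvd q)
    omega

/-- orders divisible by `2` and a prime of `nn q` or `q + 1` do not occur -/
theorem om_not_two_mul {q p n : ℕ} (h : PowTwo q) (hp : p.Prime) (hpn : p ∣ nn q ∨ p ∣ q + 1) (hn : Om q n)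
    (hpd : p ∣ n) : ¬ 2 ∣ n := by
  rcases hpn with h1 | h1
  · exact fun h2 => nn_odd h (h2.trans (om_nn h hp h1 hn hpd))
  · exact fun h2 => xx_odd h (h2.trans (om_qq h hp h1 hn hpd))

theorem om_of_dvd {q n k : ℕ} (h : Om q n) (hk : k ∣ n) : Om q k := by
  rcases h with h | h | h | h | h
  · exact Or.inl (hk.trans h)
  · exact Or.inr (Or.inl (hk.trans h))
  · exact Or.inr (Or.inr (Or.inl (hk.trans h)))
  · exact Or.inr (Or.inr (Or.inr (Or.inl (hk.trans h))))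
  · exact Or.inr (Or.inr (Or.inr (Or.inr (hk.trans h))))

theorem om_four {q : ℕ} : Om q 4 := Or.inr (Or.inr (Or.inr (Or.inr dvd_rfl)))

/-- no elements of order `4 k`, `k > 1`. -/
theorem om_four_dvd {q n : ℕ} (h : PowTwo q) (hn : Om q n) (h4 : 4 ∣ n) : n = 4 := by
  have h2 : 2 ∣ n := (Dvd.intro 2 (by norm_num : 2 * 2 = 4)).trans h4
  have h5 := h.two_le
  rcases om_even h.even (by omega) hn h2 with h3 | h3
  · exfalso
    have h6 : 2 * 2 ∣ 2 * ee q := h4.trans h3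
    have h7 : 2 ∣ ee q := Nat.dvd_of_mul_dvd_mul_left (by norm_num) h6
    have h8 := h7.trans (ee_dvd q)
    have := h.even
    omega
  · exact Nat.dvd_antisymm h3 h4

theorem exists_prime_nn {q : ℕ} (h : PowTwo q) : ∃ p, p.Prime ∧ p ∣ nn q :=
  Nat.exists_prime_and_dvd (by have := seven_le_nn h; omega)

theorem exists_prime_qq {q : ℕ} (h : PowTwo q) : ∃ p, p.Prime ∧ p ∣ q + 1 :=
  Nat.exists_prime_and_dvd (by have := h.two_le; omega)

/-- a number meeting `nn q` -/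
theorem dvd_nn_or_coprime {q n : ℕ} (h : PowTwo q) (hn : Om q n) : n ∣ nn q ∨ Nat.Coprime n (nn q) := by
  by_cases hc : Nat.Coprime n (nn q)
  · exact Or.inr hc
  · obtain ⟨p, hp, h1, h2⟩ := Nat.Prime.not_coprime_iff_dvd.mp hc
    exact Or.inl (om_nn h hp h2 hn h1)

/-- a number meeting `q + 1` -/
theorem dvd_xx_or_coprime {q n : ℕ} (h : PowTwo q) (hn : Om q n) : n ∣ xx q ∨ Nat.Coprime n (q + 1) := by
  by_cases hc : Nat.Coprime n (q + 1)
  · exact Or.inr hc
  · obtain ⟨p, hp, h1, h2⟩ := Nat.Prime.not_coprime_iff_dvd.mp hc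
    exact Or.inl (om_qq h hp h2 hn h1)

theorem coprime_nn_qq {q : ℕ} (h : PowTwo q) : Nat.Coprime (nn q) (q + 1) := by
  by_contra hc
  obtain ⟨p, hp, h1, h2⟩ := Nat.Prime.not_coprime_iff_dvd.mp hc
  exact (prime_nn h hp h1).2.2.2 h2

theorem om_two_small {n : ℕ} (h : Om 2 n) : n = 1 ∨ n = 2 ∨ n = 3 ∨ n = 4 ∨ n = 7 := by
  have e1 : nn 2 = 7 := by decide
  have e2 : xx 2 = 3 := by decide
  have e3 : ee 2 = 1 := by decide
  rcases h with h | h | h | h | h
  · rw [e1] at h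
    have := (Nat.dvd_prime (by norm_num)).mp h
    omega
  · rw [e2] at h
    have := (Nat.dvd_prime (by norm_num)).mp h
    omega
  · have := Nat.dvd_one.mp h
    omega
  · rw [e3] at h
    have := (Nat.dvd_prime (by norm_num)).mp h
    omega
  · have := Nat.le_of_dvd (by norm_num) h
    interval_cases n <;> omega

theorem om_four_small {n : ℕ} (h : Om 4 n) : n = 1 ∨ n = 2 ∨ n = 3 ∨ n = 4 ∨ n = 5 ∨ n = 7 := by
  have e1 : nn 4 = 7 := by decide
  have e2 : xx 4 = 5 := by decide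
  have e3 : ee 4 = 1 := by decide
  rcases h with h | h | h | h | h
  · rw [e1] at h
    have := (Nat.dvd_prime (by norm_num)).mp h
    omega
  · rw [e2] at h
    have := (Nat.dvd_prime (by norm_num)).mp h
    omega
  · have := (Nat.dvd_prime (by norm_num)).mp h
    omega
  · rw [e3] at h
    have := (Nat.dvd_prime (by norm_num)).mp h
    omega
  · have := Nat.le_of_dvd (by norm_num) h
    interval_cases n <;> omega

/-- `nn q = 7` only for `q = 2, 4`. -/
theorem eq_of_nn_dvd {q : ℕ} (h : PowTwo q) (h35 : nn q ∣ 35) : q = 2 ∨ q = 4 := by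
  have h1 := Nat.le_of_dvd (by norm_num) h35
  have h2 := dd_mul_nn q (by have := h.two_le; omega)
  have h3 : dd q ≤ 3 := Nat.le_of_dvd (by norm_num) (dd_dvd_three q)
  rcases h.cases with rfl | rfl | rfl | h16
  · left; rfl
  · right; rfl
  · exfalso
    have : nn 8 = 73 := by decide
    omega
  · exfalso
    have h4 : 16 ≤ q := Nat.le_of_dvd (by have := h.two_le; omega) h16
    have h5 : 16 * 16 ≤ q ^ 2 := by nlinarith
    have h6 : dd q * nn q ≤ 3 * 35 := Nat.mul_le_mul h3 h1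
    omega

end Cfsg.Agent.H375.LThree
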