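import Mathlib
import Cfsg.Agent.H375.LThree.Arith
import Cfsg.Agent.H390.PslSpec

set_option autoImplicit false
set_option linter.unusedSectionVars false

/-!
# Elimination of the simple groups: alternating groups, `PSL(2, q)`, `PSL(3, 2^k)`

`Ctx q S`: the element orders of `S` are element orders of `PSL(3, q)`, `q` even, and `S` has elements of orders
`(q² + q + 1) / d` and `q + 1`.
-/

namespace Cfsg.Agent.H375.LThree

/-- The information on the socle. -/
structure Ctx (q : ℕ) (S : Type*) [Group S] : Prop where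
  pow : PowTwo q
  om : ∀ s : S, Om q (orderOf s)
  nn : ∃ s : S, orderOf s = nn q
  qq : ∃ s : S, orderOf s = q + 1

theorem Ctx.congr {q : ℕ} {S T : Type*} [Group S] [Group T] (e : S ≃* T) (h : Ctx q S) : Ctx q T where
  pow := h.pow
  om t := by rw [← MulEquiv.orderOf_eq e.symm]; exact h.om _
  nn := by obtain ⟨s, hs⟩ := h.nn; exact ⟨e s, by rw [MulEquiv.orderOf_eq, hs]⟩
  qq := by obtain ⟨s, hs⟩ := h.qq; exact ⟨e s, by rw [MulEquiv.orderOf_eq, hs]⟩

theorem Ctx.nn_dvd {q : ℕ} {S : Type*} [Group S] (h : Ctx q S) : LThree.nn q ∣ Nat.card S := by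
  obtain ⟨s, hs⟩ := h.nn
  rw [← hs]; exact orderOf_dvd_natCard s

theorem Ctx.qq_dvd {q : ℕ} {S : Type*} [Group S] (h : Ctx q S) : q + 1 ∣ Nat.card S := by
  obtain ⟨s, hs⟩ := h.qq
  rw [← hs]; exact orderOf_dvd_natCard s

/-- orders -/
theorem Ctx.om_of {q : ℕ} {S : Type*} [Group S] (h : Ctx q S) {n : ℕ} (hn : ∃ s : S, orderOf s = n) : Om q n := by
  obtain ⟨s, rfl⟩ := hn
  exact h.om s

theorem coprime_nn_two {q : ℕ} (h : PowTwo q) : Nat.Coprime (nn q) 2 := by
  rw [Nat.coprime_comm]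
  exact (Nat.Prime.coprime_iff_not_dvd Nat.prime_two).mpr (nn_odd h)

theorem coprime_nn_three {q : ℕ} (h : PowTwo q) : Nat.Coprime (nn q) 3 := by
  rw [Nat.coprime_comm]
  exact (Nat.Prime.coprime_iff_not_dvd Nat.prime_three).mpr (three_not_dvd_nn h)

/-- small orders -/
theorem nn_dvd_of {q a b N : ℕ} (h : PowTwo q) (hd : nn q ∣ 2 ^ a * 3 ^ b * N) : nn q ∣ N :=
  Nat.Coprime.dvd_of_dvd_mul_left
    (Nat.Coprime.mul_right ((coprime_nn_two h).pow_right a) ((coprime_nn_three h).pow_right b)) hd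

theorem order_six_seven : ∃ g : alternatingGroup (Fin 7), orderOf g = 6 := by
  have h : (c[0, 1, 2] * c[3, 4] * c[5, 6] : Equiv.Perm (Fin 7)) ∈ alternatingGroup (Fin 7) := by
    rw [Equiv.Perm.mem_alternatingGroup]; decide
  refine ⟨⟨_, h⟩, ?_⟩
  rw [← Subgroup.orderOf_coe]
  have h1 : (c[0, 1, 2] * c[3, 4] * c[5, 6] : Equiv.Perm (Fin 7)) ^ 6 = 1 := by decide +kernel
  have h2 : (c[0, 1, 2] * c[3, 4] * c[5, 6] : Equiv.Perm (Fin 7)) ^ 2 ≠ 1 := by decide +kernel
  have h3 : (c[0, 1, 2] * c[3, 4] * c[5, 6] : Equiv.Perm (Fin 7)) ^ 3 ≠ 1 := by decide +kernel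
  apply orderOf_eq_of_pow_and_pow_div_prime (by norm_num) h1
  intro p hp hpd
  have hp6 : p ∣ 2 * 3 := hpd
  rcases (hp.dvd_mul).mp hp6 with h4 | h4
  · have := (Nat.prime_dvd_prime_iff_eq hp Nat.prime_two).mp h4
    subst this
    exact h3
  · have := (Nat.prime_dvd_prime_iff_eq hp Nat.prime_three).mp h4
    subst this
    exact h2

theorem order_six_eight : ∃ g : alternatingGroup (Fin 8), orderOf g = 6 := by
  have h : (c[0, 1, 2] * c[3, 4] * c[5, 6] : Equiv.Perm (Fin 8)) ∈ alternatingGroup (Fin 8) := by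
    rw [Equiv.Perm.mem_alternatingGroup]; decide
  refine ⟨⟨_, h⟩, ?_⟩
  rw [← Subgroup.orderOf_coe]
  have h1 : (c[0, 1, 2] * c[3, 4] * c[5, 6] : Equiv.Perm (Fin 8)) ^ 6 = 1 := by decide +kernel
  have h2 : (c[0, 1, 2] * c[3, 4] * c[5, 6] : Equiv.Perm (Fin 8)) ^ 2 ≠ 1 := by decide +kernel
  have h3 : (c[0, 1, 2] * c[3, 4] * c[5, 6] : Equiv.Perm (Fin 8)) ^ 3 ≠ 1 := by decide +kernel
  apply orderOf_eq_of_pow_and_pow_div_prime (by norm_num) h1
  intro p hp hpd
  have hp6 : p ∣ 2 * 3 := hpd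
  rcases (hp.dvd_mul).mp hp6 with h4 | h4
  · have := (Nat.prime_dvd_prime_iff_eq hp Nat.prime_two).mp h4
    subst this
    exact h3
  · have := (Nat.prime_dvd_prime_iff_eq hp Nat.prime_three).mp h4
    subst this
    exact h2

theorem card_alt {n N : ℕ} (hn : 2 ≤ n) (h : n.factorial = 2 * N) : Nat.card (alternatingGroup (Fin n)) = N := by
  have : Nontrivial (Fin n) := Fin.nontrivial_iff_two_le.mpr hn
  have h1 := two_mul_nat_card_alternatingGroup (α := Fin n)
  rw [Nat.card_perm, Nat.card_fin, h] at h1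
  omega

/-- **Alternating groups.** -/
theorem not_alt {q n : ℕ} (h5 : 5 ≤ n) (h8 : n ≤ 8) : ¬ Ctx q (alternatingGroup (Fin n)) := by
  intro h
  have h7 := seven_le_nn h.pow
  have hd := h.nn_dvd
  rcases (show n = 5 ∨ n = 6 ∨ n = 7 ∨ n = 8 by omega) with rfl | rfl | rfl | rfl
  · rw [card_alt (N := 60) (by norm_num) (by decide)] at hd
    have := Nat.le_of_dvd (by norm_num) (nn_dvd_of (a := 2) (b := 1) (N := 5) h.pow hd)
    omega
  · rw [card_alt (N := 360) (by norm_num) (by decide)] at hd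
    have := Nat.le_of_dvd (by norm_num) (nn_dvd_of (a := 3) (b := 2) (N := 5) h.pow hd)
    omega
  · rw [card_alt (N := 2520) (by norm_num) (by decide)] at hd
    have h6 := h.om_of order_six_seven
    rcases eq_of_nn_dvd h.pow (nn_dvd_of (a := 3) (b := 2) (N := 35) h.pow hd) with rfl | rfl
    · have := om_two_small h6; omega
    · have := om_four_small h6; omega
  · rw [card_alt (N := 20160) (by norm_num) (by decide)] at hd
    have h6 := h.om_of order_six_eight
    rcases eq_of_nn_dvd h.pow (nn_dvd_of (a := 6) (b := 2) (N := 35) h.pow hd) with rfl | rfl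
    · have := om_two_small h6; omega
    · have := om_four_small h6; omega

/-- a number of the spectrum divisible by `nn q` is `nn q` -/
theorem eq_nn {q n : ℕ} (h : PowTwo q) (hn : Om q n) (hd : nn q ∣ n) : n = nn q := by
  obtain ⟨p, hp, hpn⟩ := exists_prime_nn h
  exact Nat.dvd_antisymm (om_nn h hp hpn hn (hpn.trans hd)) hd

theorem not_qq_dvd_of_dvd_nn {q n : ℕ} (h : PowTwo q) (hn : n ∣ nn q) : ¬ q + 1 ∣ n := by
  intro h1
  obtain ⟨p, hp, hpn⟩ := exists_prime_qq h
  exact (prime_qq h hp hpn).2.2 ((hpn.trans h1).trans hn)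

/-- `q + 1` divides `d n ± ...`: the basic congruence. -/
theorem dd_mul_nn' {q : ℕ} (h : PowTwo q) : dd q * nn q = q * (q + 1) + 1 := by
  rw [dd_mul_nn q (by have := h.two_le; omega)]
  ring

theorem dd_two : dd 2 = 1 := by decide
theorem dd_four : dd 4 = 3 := by decide
theorem dd_eight : dd 8 = 1 := by decide

/-- **`PSL(2, Q)`, `Q` even.** -/
theorem not_psl_two_even {q : ℕ} {F : Type*} [Field F] [Fintype F] [CharP F 2] (hF : 4 ≤ Fintype.card F) :
    ¬ Ctx q (Matrix.ProjectiveSpecialLinearGroup (Fin 2) F) := by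
  intro h
  have : Fact (Nat.Prime 2) := ⟨Nat.prime_two⟩
  have hr := Cfsg.Agent.H390.PslSpec.range_orderOf (p := 2) hF
  obtain ⟨k, -, hk⟩ := FiniteField.card F 2
  have hQ2 : 2 ∣ Fintype.card F := by rw [hk]; exact dvd_pow_self 2 k.ne_zero
  have hd : Cfsg.Agent.H390.PslSpec.dd (Fintype.card F) = 1 := by
    unfold Cfsg.Agent.H390.PslSpec.dd
    apply (Nat.Prime.coprime_iff_not_dvd Nat.prime_two).mpr
    omega
  have hmem : ∀ n, (∃ s : Matrix.ProjectiveSpecialLinearGroup (Fin 2) F, orderOf s = n) ↔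
      n ∣ 2 ∨ n ∣ Fintype.card F - 1 ∨ n ∣ Fintype.card F + 1 := by
    intro n
    have := Set.ext_iff.mp hr n
    rw [Set.mem_range] at this
    rw [this]
    unfold Cfsg.Agent.H390.PslSpec.specSet
    rw [hd, Set.mem_setOf_eq, Nat.div_one, Nat.div_one]
  set Q := Fintype.card F
  have h7 := seven_le_nn h.pow
  have h1 := h.om_of ((hmem _).mpr (Or.inr (Or.inl (dvd_refl (Q - 1)))))
  have h2 := h.om_of ((hmem _).mpr (Or.inr (Or.inr (dvd_refl (Q + 1)))))
  have hq2 := h.pow.two_le
  have key := dd_mul_nn' h.pow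
  rcases (hmem _).mp h.nn with h3 | h3 | h3
  · have := Nat.le_of_dvd (by norm_num) h3; omega
  · -- `nn q = Q - 1`
    have h4 := eq_nn h.pow h1 h3
    have h5 : q + 1 ∣ Q + 1 := by
      rcases (hmem _).mp h.qq with h6 | h6 | h6
      · have := Nat.le_of_dvd (by norm_num) h6; omega
      · exact absurd h6 (not_qq_dvd_of_dvd_nn h.pow h4.dvd)
      · exact h6
    have h6 : Q + 1 = nn q + 2 := by omega
    rw [h6] at h5
    have h8 : q + 1 ∣ dd q * (nn q + 2) := h5.mul_left _
    rw [mul_add, key] at h8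
    rcases dd_cases q with hd | hd
    · rw [hd] at h8 key
      have h9 : q + 1 ∣ 3 := by
        have : q * (q + 1) + 1 + 1 * 2 = 3 + q * (q + 1) := by ring
        rw [this] at h8
        exact (Nat.dvd_add_left (Dvd.intro_left _ rfl)).mp h8
      have h10 := Nat.le_of_dvd (by norm_num) h9
      have h11 : q = 2 := by omega
      subst h11
      have h12 : Q + 1 = 9 := by omega
      rw [h12] at h2
      have := om_two_small h2
      omega
    · rw [hd] at h8
      have h9 : q + 1 ∣ 7 := by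
        have : q * (q + 1) + 1 + 3 * 2 = 7 + q * (q + 1) := by ring
        rw [this] at h8
        exact (Nat.dvd_add_left (Dvd.intro_left _ rfl)).mp h8
      have h10 := (Nat.dvd_prime (by norm_num)).mp h9
      have h11 : q = 6 := by omega
      subst h11
      rcases h.pow.cases with h | h | h | h <;> omega
  · -- `nn q = Q + 1`
    have h4 := eq_nn h.pow h2 h3
    have h5 : q + 1 ∣ Q - 1 := by
      rcases (hmem _).mp h.qq with h6 | h6 | h6
      · have := Nat.le_of_dvd (by norm_num) h6; omega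
      · exact h6
      · exact absurd h6 (not_qq_dvd_of_dvd_nn h.pow h4.dvd)
    have h8 : q + 1 ∣ dd q * (Q - 1) := h5.mul_left _
    rcases dd_cases q with hd | hd
    · rw [hd, one_mul] at key
      rw [hd, one_mul] at h8
      have h9 : Q - 1 + 1 = q * (q + 1) := by omega
      have h10 : q + 1 ∣ 1 := by
        have : q + 1 ∣ Q - 1 + 1 := by rw [h9]; exact Dvd.intro_left _ rfl
        exact (Nat.dvd_add_right h8).mp this
      have := Nat.le_of_dvd (by norm_num) h10
      omega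
    · rw [hd] at key h8
      have h9 : 3 * (Q - 1) + 5 = q * (q + 1) := by omega
      have h10 : q + 1 ∣ 5 := by
        have : q + 1 ∣ 3 * (Q - 1) + 5 := by rw [h9]; exact Dvd.intro_left _ rfl
        exact (Nat.dvd_add_right h8).mp this
      have h11 := (Nat.dvd_prime (by norm_num)).mp h10
      have h12 : q = 4 := by omega
      subst h12
      have hQ : PowTwo Q := ⟨k, k.pos, hk⟩
      rcases hQ.cases with hQ | hQ | hQ | hQ <;> omega

end Cfsg.Agent.H375.LThree
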