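import Mathlib
import Cfsg.Agent.H375.LThree.ElimA

set_option autoImplicit false
set_option linter.unusedSectionVars false

/-!
# Elimination of the simple groups: `PSL(2, q)`, `q` odd, and `PSL(3, 2^k)`
-/

namespace Cfsg.Agent.H375.LThree

theorem PowTwo.two_or_four {q : ℕ} (h : PowTwo q) : q = 2 ∨ 4 ∣ q := by
  rcases h.cases with h | h | h | h <;> omega

/-- The arithmetic of `PSL(2, Q)`: `O` odd, `2 O = Q ± 1`, `Q = p ^ k`. -/
theorem arith_psl_odd {q p k O : ℕ} (h : PowTwo q) (hk : 1 ≤ k) (hO : 2 * O = p ^ k + 1 ∨ 2 * O + 1 = p ^ k)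
    (h1 : (nn q = p ∧ q + 1 ∣ O ∧ O ∣ xx q ∧ ¬ 2 ∣ O) ∨ (q + 1 = p ∧ O = nn q)) : q = 2 ∧ p ^ k = 7 := by
  have hq2 := h.two_le
  have key := dd_mul_nn' h
  have h7 := seven_le_nn h
  rcases h1 with ⟨hp, h2, h3, h4⟩ | ⟨hp, h2⟩
  · have h5 : O ≤ xx q := Nat.le_of_dvd (by
      have := seven_le_nn h
      have h6 := dd_mul_xx q (by omega)
      apply Nat.pos_of_ne_zero
      intro h0
      rw [h0, mul_zero] at h6
      have : 2 * 2 ≤ q ^ 2 := by nlinarith
      omega) h3
    have h6 : xx q < nn q := by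
      have h8 := dd_mul_xx q (by omega)
      have h9 := dd_mul_nn q (by omega)
      have h10 : dd q * xx q < dd q * nn q := by
        rw [h8, h9]; omega
      exact lt_of_mul_lt_mul_left h10 (Nat.zero_le _)
    have hk1 : k = 1 := by
      by_contra hk1
      have hk2 : 2 ≤ k := by omega
      have h8 : p ^ 2 ≤ p ^ k := Nat.pow_le_pow_right (by omega) hk2
      have h9 : p ^ 2 = p * p := by ring
      have h10 : 7 * p ≤ p * p := Nat.mul_le_mul_right p (by omega)
      omega
    subst hk1
    rw [pow_one] at hO ⊢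
    rw [← hp] at hO ⊢
    have h8 : q + 1 ∣ 2 * O := h2.mul_left _
    rcases dd_cases q with hd | hd
    · rw [hd, one_mul] at key
      rcases hO with hO | hO
      · exfalso
        rw [hO, key] at h8
        have h9 : q + 1 ∣ 2 := by
          have : q * (q + 1) + 1 + 1 = 2 + q * (q + 1) := by ring
          rw [this] at h8
          exact (Nat.dvd_add_left (Dvd.intro_left _ rfl)).mp h8
        have := Nat.le_of_dvd (by norm_num) h9
        omega
      · rcases h.two_or_four with h10 | h10
        · subst h10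
          exact ⟨rfl, by omega⟩
        · exfalso
          apply h4
          have h11 : 4 ∣ q * (q + 1) := h10.mul_right _
          have h12 : 2 * O = q * (q + 1) := by omega
          omega
    · exfalso
      rw [hd] at key
      have hq4 : q ≠ 2 := by rintro rfl; rw [dd_two] at hd; omega
      have h9 : q + 1 ∣ 3 * (2 * O) := h8.mul_left _
      rcases hO with hO | hO
      · have h10 : 3 * (2 * O) = 4 + q * (q + 1) := by omega
        rw [h10] at h9
        have h11 := Nat.le_of_dvd (by norm_num) ((Nat.dvd_add_left (Dvd.intro_left _ rfl)).mp h9)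
        rcases h.two_or_four with h12 | h12 <;> omega
      · have h10 : 3 * (2 * O) + 2 = q * (q + 1) := by omega
        have h11 : q + 1 ∣ 3 * (2 * O) + 2 := by rw [h10]; exact Dvd.intro_left _ rfl
        have h12 := Nat.le_of_dvd (by norm_num) ((Nat.dvd_add_right h9).mp h11)
        rcases h.two_or_four with h12 | h12 <;> omega
  · exfalso
    subst hp
    have hpk : q + 1 ∣ (q + 1) ^ k := dvd_pow_self _ (by omega)
    rw [h2] at hO
    rcases dd_cases q with hd | hd
    · rw [hd, one_mul] at key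
      rcases hO with hO | hO
      · -- `2 n = p^k + 1`
        have h3 : 1 + 2 * (q * (q + 1)) = (q + 1) ^ k := by omega
        have h4 : q + 1 ∣ 1 + 2 * (q * (q + 1)) := by rw [h3]; exact hpk
        have h5 : q + 1 ∣ 2 * (q * (q + 1)) := (Dvd.intro_left q rfl : q + 1 ∣ q * (q + 1)).mul_left 2
        have := Nat.le_of_dvd (by norm_num) ((Nat.dvd_add_left h5).mp h4)
        omega
      · have h3 : 3 + 2 * (q * (q + 1)) = (q + 1) ^ k := by omega
        have h4 : q + 1 ∣ 3 + 2 * (q * (q + 1)) := by rw [h3]; exact hpk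
        have h5 : q + 1 ∣ 2 * (q * (q + 1)) := (Dvd.intro_left q rfl : q + 1 ∣ q * (q + 1)).mul_left 2
        have h6 := Nat.le_of_dvd (by norm_num) ((Nat.dvd_add_left h5).mp h4)
        have h7 : q = 2 := by omega
        subst h7
        -- `15 = 3 ^ k`
        have h8 : (3 : ℕ) ^ k = 15 := by
          have h8' : (3 : ℕ) + 2 * (2 * (2 + 1)) = (2 + 1) ^ k := h3
          norm_num at h8'
          exact h8'.symm
        have h9 : 5 ∣ 3 ^ k := by rw [h8]; norm_num
        have h10 : 5 ∣ 3 := Nat.prime_five.dvd_of_dvd_pow h9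
        exact absurd h10 (by decide)
    · rw [hd] at key
      rcases hO with hO | hO
      · have h3 : 3 * (q + 1) ^ k + 1 = 2 * (q * (q + 1)) := by omega
        have h4 : q + 1 ∣ 3 * (q + 1) ^ k + 1 := by
          rw [h3]; exact (Dvd.intro_left q rfl : q + 1 ∣ q * (q + 1)).mul_left 2
        have := Nat.le_of_dvd (by norm_num) ((Nat.dvd_add_right (hpk.mul_left 3)).mp h4)
        omega
      · have h3 : 3 * (q + 1) ^ k = 5 + 2 * (q * (q + 1)) := by omega
        have h4 : q + 1 ∣ 5 + 2 * (q * (q + 1)) := by rw [← h3]; exact hpk.mul_left 3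
        have h5 : q + 1 ∣ 2 * (q * (q + 1)) := (Dvd.intro_left q rfl : q + 1 ∣ q * (q + 1)).mul_left 2
        have h6 := (Nat.dvd_prime Nat.prime_five).mp ((Nat.dvd_add_left h5).mp h4)
        have h7 : q = 4 := by omega
        subst h7
        have h8 : (5 : ℕ) ^ k = 15 := by
          have h8' : 3 * (4 + 1) ^ k = 5 + 2 * (4 * (4 + 1)) := h3
          norm_num at h8'
          omega
        have h9 : 3 ∣ 5 ^ k := by rw [h8]; norm_num
        have h10 : 3 ∣ 5 := Nat.prime_three.dvd_of_dvd_pow h9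
        exact absurd h10 (by decide)

/-- **`PSL(2, Q)`, `Q` odd.** -/
theorem psl_two_odd {q : ℕ} {F : Type*} [Field F] [Fintype F] (hodd : Odd (Fintype.card F))
    (hF : 4 ≤ Fintype.card F) (h : Ctx q (Matrix.ProjectiveSpecialLinearGroup (Fin 2) F)) :
    q = 2 ∧ Fintype.card F = 7 := by
  obtain ⟨p, hch⟩ := CharP.exists F
  have hp : p.Prime := CharP.char_is_prime F p
  have : Fact p.Prime := ⟨hp⟩
  have hr := Cfsg.Agent.H390.PslSpec.range_orderOf (p := p) hF
  obtain ⟨k, -, hk⟩ := FiniteField.card F p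
  have hd : Cfsg.Agent.H390.PslSpec.dd (Fintype.card F) = 2 := by
    unfold Cfsg.Agent.H390.PslSpec.dd
    obtain ⟨j, hj⟩ := hodd
    rw [hj, Nat.add_sub_cancel]
    exact Nat.gcd_eq_left (Dvd.intro _ rfl)
  have hmem : ∀ n, (∃ s : Matrix.ProjectiveSpecialLinearGroup (Fin 2) F, orderOf s = n) ↔
      n ∣ p ∨ n ∣ (Fintype.card F - 1) / 2 ∨ n ∣ (Fintype.card F + 1) / 2 := by
    intro n
    have := Set.ext_iff.mp hr n
    rw [Set.mem_range] at this
    rw [this]
    unfold Cfsg.Agent.H390.PslSpec.specSet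
    rw [hd, Set.mem_setOf_eq]
  set Q := Fintype.card F
  obtain ⟨a, ha⟩ := hodd
  have ea : (Q - 1) / 2 = a := by omega
  have eb : (Q + 1) / 2 = a + 1 := by omega
  rw [ea, eb] at hmem
  have h7 := seven_le_nn h.pow
  have hq2 := h.pow.two_le
  -- an even member is divisible neither by `nn q` nor by `q + 1`
  have hev : ∀ E, 2 ∣ E → (∃ s : Matrix.ProjectiveSpecialLinearGroup (Fin 2) F, orderOf s = E) →
      ¬ nn q ∣ E ∧ ¬ q + 1 ∣ E := by
    intro E hE hs
    have h1 := h.om_of hs
    constructor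
    · intro h2
      obtain ⟨r, hr, hrn⟩ := exists_prime_nn h.pow
      exact om_not_two_mul h.pow hr (Or.inl hrn) h1 (hrn.trans h2) hE
    · intro h2
      obtain ⟨r, hr, hrn⟩ := exists_prime_qq h.pow
      exact om_not_two_mul h.pow hr (Or.inr hrn) h1 (hrn.trans h2) hE
  have hp1 : ∀ n, n ∣ p → n = 1 ∨ n = p := fun n hn => (Nat.dvd_prime hp).mp hn
  -- the odd one of `a`, `a + 1`
  have main : ∀ O E : ℕ, 2 ∣ E → ¬ 2 ∣ O → (2 * O = p ^ (k : ℕ) + 1 ∨ 2 * O + 1 = p ^ (k : ℕ)) →
      (∀ n, (∃ s : Matrix.ProjectiveSpecialLinearGroup (Fin 2) F, orderOf s = n) ↔ n ∣ p ∨ n ∣ O ∨ n ∣ E) →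
      q = 2 ∧ p ^ (k : ℕ) = 7 := by
    intro O E hE hO hO2 hm
    have h1 := hev E hE ((hm E).mpr (Or.inr (Or.inr dvd_rfl)))
    have h2 := h.om_of ((hm O).mpr (Or.inr (Or.inl dvd_rfl)))
    apply arith_psl_odd h.pow k.pos hO2
    rcases (hm _).mp h.nn with h3 | h3 | h3
    · rcases (hm _).mp h.qq with h4 | h4 | h4
      · exfalso
        have h5 := hp1 _ h3
        have h6 := hp1 _ h4
        have h8 : nn q = q + 1 := by omega
        have h9 := coprime_nn_qq h.pow
        rw [h8, Nat.coprime_self] at h9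
        omega
      · left
        obtain ⟨r, hr, hrn⟩ := exists_prime_qq h.pow
        refine ⟨by have := hp1 _ h3; omega, h4, om_qq h.pow hr hrn h2 (hrn.trans h4), hO⟩
      · exact absurd h4 h1.2
    · have h5 := eq_nn h.pow h2 h3
      rcases (hm _).mp h.qq with h4 | h4 | h4
      · right
        exact ⟨by have := hp1 _ h4; omega, h5⟩
      · exact absurd h4 (not_qq_dvd_of_dvd_nn h.pow h5.dvd)
      · exact absurd h4 h1.2
    · exact absurd h3 h1.1
  rw [hk]
  rcases Nat.even_or_odd a with he | ho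
  · refine main (a + 1) a he.two_dvd (by have := he.two_dvd; omega) (Or.inl (by rw [← hk]; omega)) ?_
    intro n
    rw [hmem]
    tauto
  · refine main a (a + 1) (by obtain ⟨j, hj⟩ := ho; omega) (by obtain ⟨j, hj⟩ := ho; omega)
      (Or.inr (by rw [← hk]; omega)) ?_
    intro n
    rw [hmem]

/-- Equality of the big torus orders. -/
theorem arith_psl_three {q u : ℕ} (hq : PowTwo q) (hu : PowTwo u) (h : nn u = nn q) :
    u = q ∨ (q = 2 ∧ u = 4) ∨ (q = 4 ∧ u = 2) := by
  have k1 := dd_mul_nn' hq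
  have k2 := dd_mul_nn' hu
  have hq2 := hq.two_le
  have hu2 := hu.two_le
  rw [h] at k2
  rcases dd_cases q with hd | hd <;> rcases dd_cases u with hd' | hd' <;> rw [hd] at k1 <;> rw [hd'] at k2
  · left
    have h1 : u * (u + 1) = q * (q + 1) := by omega
    rcases Nat.lt_trichotomy u q with h2 | h2 | h2
    · have : u * (u + 1) < q * (q + 1) := Nat.mul_lt_mul'' h2 (by omega)
      omega
    · exact h2
    · have : q * (q + 1) < u * (u + 1) := Nat.mul_lt_mul'' h2 (by omega)
      omega
  · -- `u (u+1) + 1 = 3 (q (q+1) + 1)`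
    have h1 : u * (u + 1) + 1 = 3 * (q * (q + 1)) + 3 := by omega
    rcases hq.two_or_four with rfl | h4
    · right; left
      refine ⟨rfl, ?_⟩
      rcases hu.cases with rfl | rfl | rfl | h16
      · omega
      · rfl
      · omega
      · have h5 := Nat.le_of_dvd (by omega) h16
        have : 16 * 16 ≤ u * (u + 1) := Nat.mul_le_mul h5 (by omega)
        omega
    · exfalso
      have h5 : 4 ∣ q * (q + 1) := h4.mul_right _
      rcases hu.two_or_four with rfl | h6
      · omega
      · have h7 : 4 ∣ u * (u + 1) := h6.mul_right _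
        omega
  · have h1 : 3 * (u * (u + 1)) + 3 = q * (q + 1) + 1 := by omega
    rcases hu.two_or_four with rfl | h4
    · right; right
      refine ⟨?_, rfl⟩
      rcases hq.cases with rfl | rfl | rfl | h16
      · omega
      · rfl
      · omega
      · have h5 := Nat.le_of_dvd (by omega) h16
        have : 16 * 16 ≤ q * (q + 1) := Nat.mul_le_mul h5 (by omega)
        omega
    · exfalso
      have h5 : 4 ∣ u * (u + 1) := h4.mul_right _
      rcases hq.two_or_four with rfl | h6
      · omega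
      · have h7 : 4 ∣ q * (q + 1) := h6.mul_right _
        omega
  · left
    have h1 : u * (u + 1) = q * (q + 1) := by omega
    rcases Nat.lt_trichotomy u q with h2 | h2 | h2
    · have : u * (u + 1) < q * (q + 1) := Nat.mul_lt_mul'' h2 (by omega)
      omega
    · exact h2
    · have : q * (q + 1) < u * (u + 1) := Nat.mul_lt_mul'' h2 (by omega)
      omega

/-- `(u² - 1) / d'` is not the order of the big torus; here `d, d'` are arbitrary divisors of 3. -/
theorem arith_xx {q u d' x : ℕ} (hq : PowTwo q) (hu : PowTwo u) (hd' : d' = 1 ∨ d' = 3)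
    (hx : d' * x = u ^ 2 - 1) (h : x = nn q) : False := by
  have k1 := dd_mul_nn' hq
  have hq2 := hq.two_le
  have hu2 := hu.two_le
  have h4 : 2 * 2 ≤ u ^ 2 := by nlinarith
  rw [h] at hx
  have hu4 : u = 2 ∨ 16 ∣ u ^ 2 := by
    rcases hu.two_or_four with h1 | ⟨c, hc⟩
    · exact Or.inl h1
    · right
      refine ⟨c ^ 2, ?_⟩
      rw [hc]; ring
  have hq16 : q = 2 ∨ q = 4 ∨ q = 8 ∨ 16 ∣ q * (q + 1) := by
    rcases hq.cases with h1 | h1 | h1 | h1
    · exact Or.inl h1
    · exact Or.inr (Or.inl h1)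
    · exact Or.inr (Or.inr (Or.inl h1))
    · exact Or.inr (Or.inr (Or.inr (h1.mul_right _)))
  have hbig : 16 ∣ q * (q + 1) → 16 ≤ q * (q + 1) := fun h => Nat.le_of_dvd (by positivity) h
  have huu : u = 2 → u ^ 2 = 4 := by rintro rfl; norm_num
  have q2 : q = 2 → q * (q + 1) = 6 := by rintro rfl; norm_num
  have q4 : q = 4 → q * (q + 1) = 20 := by rintro rfl; norm_num
  have q8 : q = 8 → q * (q + 1) = 72 := by rintro rfl; norm_num
  have d2 : q = 2 → dd q = 1 := by rintro rfl; decide
  have d4 : q = 4 → dd q = 3 := by rintro rfl; decide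
  have d8 : q = 8 → dd q = 1 := by rintro rfl; decide
  rcases dd_cases q with hd | hd <;> rw [hd] at k1 <;> rcases hd' with rfl | rfl <;>
    rcases hu4 with h5 | h5 <;> rcases hq16 with h6 | h6 | h6 | h6 <;> omega

/-- **`PSL(3, 2^k)`.** -/
theorem psl_three {q : ℕ} {F : Type*} [Field F] [Fintype F] [CharP F 2]
    (h : Ctx q (Matrix.ProjectiveSpecialLinearGroup (Fin 3) F)) : Fintype.card F = q := by
  obtain ⟨k, -, hk⟩ := FiniteField.card F 2
  have hu : PowTwo (Fintype.card F) := ⟨k, k.pos, hk⟩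
  have hup : ∀ n, (∃ s : Matrix.ProjectiveSpecialLinearGroup (Fin 3) F, orderOf s = n) → Om (Fintype.card F) n := by
    rintro n ⟨s, rfl⟩
    exact om_orderOf s
  have h1 : Om q (nn (Fintype.card F)) := h.om_of exists_order_nn
  have h2 : Om q (xx (Fintype.card F)) := h.om_of exists_order_xx
  have h5 := hup _ h.qq
  have h7 := seven_le_nn h.pow
  have hee : nn q ∣ ee (Fintype.card F) → False := by
    intro h3
    have h4 : nn q ∣ xx (Fintype.card F) := h3.mul_left _
    have h5 := eq_nn h.pow h2 h4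
    exact arith_xx h.pow hu (dd_cases _) (dd_mul_xx _ (by have := hu.two_le; omega)) h5
  rcases hup _ h.nn with h3 | h3 | h3 | h3 | h3
  · have h4 := eq_nn h.pow h1 h3
    rcases arith_psl_three h.pow hu h4 with h6 | ⟨rfl, h6⟩ | ⟨rfl, h6⟩
    · exact h6
    · exfalso
      rw [h6] at h2
      have e : xx 4 = 5 := by decide
      rw [e] at h2
      have := om_two_small h2
      omega
    · exfalso
      rw [h6] at h5
      have := om_two_small h5
      omega
  · exfalso
    have h5 := eq_nn h.pow h2 h3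
    exact arith_xx h.pow hu (dd_cases _) (dd_mul_xx _ (by have := hu.two_le; omega)) h5
  · exfalso
    rw [← dd_mul_ee] at h3
    apply hee
    exact Nat.Coprime.dvd_of_dvd_mul_left
      (Nat.Coprime.coprime_dvd_right (dd_dvd_three _) (coprime_nn_three h.pow)) h3
  · exfalso
    exact hee (Nat.Coprime.dvd_of_dvd_mul_left (coprime_nn_two h.pow) h3)
  · exfalso
    have := Nat.le_of_dvd (by norm_num) h3
    omega

end Cfsg.Agent.H375.LThree
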