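import Mathlib
import Cfsg.Agent.H375.LThree.ElimA
import Cfsg.Agent.H127.PSUThreeEx
import Cfsg.Agent.H124.SUThreeEig

set_option autoImplicit false

/-!
# Elimination of `PSU(3, 2^k)`
-/

namespace Cfsg.Agent.H375.LThree

theorem PowTwo.coprime_succ {q u : ℕ} (h : PowTwo q) (hu : 2 ∣ u) : Nat.Coprime q (u + 1) := by
  obtain ⟨m, -, rfl⟩ := h
  apply Nat.Coprime.pow_left
  exact (Nat.Prime.coprime_iff_not_dvd Nat.prime_two).mpr (by omega)

theorem PowTwo.coprime_pred {q u : ℕ} (h : PowTwo q) (hu : 2 ∣ u) (h1 : 1 ≤ u) : Nat.Coprime q (u - 1) := by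
  obtain ⟨m, -, rfl⟩ := h
  apply Nat.Coprime.pow_left
  exact (Nat.Prime.coprime_iff_not_dvd Nat.prime_two).mpr (by omega)

theorem arith_psu {q u g E M : ℕ} (h : PowTwo q) (hu : PowTwo u) (h4 : 4 ≤ u) (hg : g = 1 ∨ g = 3)
    (hE : g * E = u + 1) (hM : g * M + u = u * u + 1) (oX : Om q (E * (u - 1))) (oE : Om q (2 * E)) (oM : Om q M)
    (hn : nn q ∣ g * E ∨ nn q ∣ 2 * E ∨ nn q ∣ E * (u - 1) ∨ nn q ∣ M ∨ nn q ∣ 4) : False := by
  have hq2 := h.two_le
  have hqe := h.even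
  have hE2 : 2 ≤ E := by
    rcases hg with rfl | rfl <;> omega
  obtain ⟨p', hp', hpE⟩ := Nat.exists_prime_and_dvd (n := E) (by omega)
  have claim1 : ∀ p, p.Prime → p ∣ nn q → ¬ p ∣ E := by
    intro p hp hpn hpd
    exact om_not_two_mul h hp (Or.inl hpn) oE (hpd.mul_left 2) (Dvd.intro _ rfl)
  have claim2 : ∀ p, p.Prime → p ∣ nn q → ¬ p ∣ u - 1 := by
    intro p hp hpn hpd
    have h1 := om_nn h hp hpn oX (hpd.mul_left E)
    exact claim1 p' hp' (hpE.trans ((Dvd.intro _ rfl).trans h1)) hpE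
  obtain ⟨p, hp, hpn⟩ := exists_prime_nn h
  obtain ⟨h2, h3, -, -⟩ := prime_nn h hp hpn
  have h2' : ¬ p ∣ 2 := fun h5 => h2 ((Nat.prime_dvd_prime_iff_eq hp Nat.prime_two).mp h5)
  have h3' : ¬ p ∣ 3 := fun h5 => h3 ((Nat.prime_dvd_prime_iff_eq hp Nat.prime_three).mp h5)
  have hNM : nn q ∣ M := by
    rcases hn with h5 | h5 | h5 | h5 | h5
    · rcases hp.dvd_mul.mp (hpn.trans h5) with h6 | h6
      · rcases hg with rfl | rfl
        · exact absurd (Nat.dvd_one.mp h6) hp.one_lt.ne'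
        · exact absurd h6 h3'
      · exact absurd h6 (claim1 p hp hpn)
    · rcases hp.dvd_mul.mp (hpn.trans h5) with h6 | h6
      · exact absurd h6 h2'
      · exact absurd h6 (claim1 p hp hpn)
    · rcases hp.dvd_mul.mp (hpn.trans h5) with h6 | h6
      · exact absurd h6 (claim1 p hp hpn)
      · exact absurd h6 (claim2 p hp hpn)
    · exact h5
    · have h6 : p ∣ 2 ^ 2 := (hpn.trans h5).trans (by norm_num)
      exact absurd (hp.dvd_of_dvd_pow h6) h2'
  have hMN : M = nn q := Nat.dvd_antisymm (om_nn h hp hpn oM (hpn.trans hNM)) hNM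
  subst hMN
  have key := dd_mul_nn' h
  -- equal `d`
  have hEq : u * u = q * (q + 1) + u → False := by
    intro h5
    have h6 : u * (u - 1) = q * (q + 1) := by
      rw [Nat.mul_sub, mul_one]; omega
    have h7 : u ∣ q := by
      apply Nat.Coprime.dvd_of_dvd_mul_right (hu.coprime_succ hqe)
      rw [← h6]; exact Dvd.intro _ rfl
    have h8 : q ∣ u := by
      apply Nat.Coprime.dvd_of_dvd_mul_right (h.coprime_pred hu.even (by omega))
      rw [h6]; exact Dvd.intro _ rfl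
    have h9 := Nat.dvd_antisymm h7 h8
    subst h9
    have h10 : u * (u + 1) = u * u + u := by ring
    omega
  have hu4 : 4 ∣ u := by
    rcases hu.cases with h5 | h5 | h5 | h5 <;> omega
  have huu : 4 ∣ u * u := hu4.mul_right _
  rcases dd_cases q with hd | hd <;> rcases hg with rfl | rfl
  · rw [hd] at key
    apply hEq
    omega
  · rw [hd, one_mul] at key
    rcases h.cases with h5 | h5 | h5 | h5
    · subst h5
      rcases (show u = 4 ∨ 8 ≤ u by omega) with rfl | h6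
      · omega
      · have : 8 * u ≤ u * u := Nat.mul_le_mul_right u h6
        omega
    · subst h5; omega
    · subst h5; omega
    · have h6 : 4 ∣ q * (q + 1) := ((by norm_num : 4 ∣ 16).trans h5).mul_right _
      omega
  · rw [hd] at key
    have h5 : q % 3 = 1 := (dd_eq_three_iff (by omega)).mp hd
    have h6 : 4 ∣ q := by
      rcases h.cases with h7 | h7 | h7 | h7 <;> omega
    have h7 : 4 ∣ q * (q + 1) := h6.mul_right _
    omega
  · rw [hd] at key
    apply hEq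
    omega

/-- **`PSU(3, 2^k)`, `k ≥ 2`.** -/
theorem not_psu_three {q : ℕ} {F : Type*} [Field F] [Fintype F] {k : ℕ} (hk : 2 ≤ k)
    (hF : Fintype.card F = (2 ^ k) ^ 2) : ¬ Ctx q (Cfsg.PSU 3 F (2 ^ k)) := by
  intro h
  have h2 : Fact (Nat.Prime 2) := ⟨Nat.prime_two⟩
  have hch : CharP F 2 := by
    have h3 : CharP F (ringChar F) := inferInstance
    obtain ⟨n, hp, hn⟩ := FiniteField.card F (ringChar F)
    have h4 : ringChar F ∣ (2 ^ k) ^ 2 := by rw [← hF, hn]; exact dvd_pow_self _ n.ne_zero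
    have h5 := (Nat.prime_dvd_prime_iff_eq hp Nat.prime_two).mp (hp.dvd_of_dvd_pow (hp.dvd_of_dvd_pow h4))
    rw [h5] at h3
    exact h3
  have hu : PowTwo (2 ^ k) := ⟨k, by omega, rfl⟩
  have h4 : 4 ≤ 2 ^ k := by
    calc 4 = 2 ^ 2 := by norm_num
      _ ≤ 2 ^ k := Nat.pow_le_pow_right (by norm_num) hk
  obtain ⟨u, hu'⟩ : ∃ u, u = 2 ^ k := ⟨_, rfl⟩
  rw [← hu'] at h hF hu h4
  have hg3 : Nat.gcd 3 (u + 1) ∣ 3 := Nat.gcd_dvd_left _ _
  have hgE : Nat.gcd 3 (u + 1) ∣ u + 1 := Nat.gcd_dvd_right _ _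
  have hsp := fun x => Cfsg.Agent.H124.SUThreeEig.orderOf_dvd hF 2 x
  have e2 := Cfsg.Agent.H127.PSUThreeEx.ex_two 2 hF
  have e3 := Cfsg.Agent.H127.PSUThreeEx.ex_three hF
  have e4 := Cfsg.Agent.H127.PSUThreeEx.ex_four 2 hF
  set g := Nat.gcd 3 (u + 1) with hgdef
  have hg : g = 1 ∨ g = 3 := (Nat.dvd_prime Nat.prime_three).mp hg3
  have hg0 : 0 < g := by omega
  obtain ⟨E, hE⟩ := hgE
  have hsq : u ^ 2 - 1 = g * (E * (u - 1)) := by
    have : u ^ 2 - 1 ^ 2 = (u + 1) * (u - 1) := Nat.sq_sub_sq _ _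
    rw [one_pow] at this
    rw [this, hE, mul_assoc]
  have huu : u * u = u ^ 2 := by ring
  have hule : u ≤ u * u := Nat.le_mul_self u
  obtain ⟨M, hM⟩ : g ∣ u ^ 2 - u + 1 := by
    rcases hg with h5 | h5
    · rw [h5]; exact one_dvd _
    · rw [h5]
      rw [h5] at hE
      have h6 : u % 3 = 2 := by omega
      have h7 : u * u % 3 = 1 := by rw [Nat.mul_mod, h6]
      rw [← huu]
      omega
  have d1 : (u + 1) / g = E := by rw [hE, Nat.mul_div_cancel_left _ hg0]
  have d2 : 2 * (u + 1) / g = 2 * E := by rw [hE, mul_left_comm, Nat.mul_div_cancel_left _ hg0]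
  have d3 : (u ^ 2 - 1) / g = E * (u - 1) := by rw [hsq, Nat.mul_div_cancel_left _ hg0]
  have d4 : (u ^ 2 - u + 1) / g = M := by rw [hM, Nat.mul_div_cancel_left _ hg0]
  rw [d1, d3, d4] at hsp
  rw [d2] at e2
  rw [d3] at e3
  rw [d4] at e4
  obtain ⟨x, hx⟩ := h.nn
  refine arith_psu (g := g) (E := E) (M := M) h.pow hu h4 hg hE.symm (by rw [← hM, ← huu]; omega)
    (h.om_of (e3 _ dvd_rfl)) (h.om_of (e2 _ dvd_rfl)) (h.om_of (e4 _ dvd_rfl)) ?_
  have h5 := hsp x
  rw [hx] at h5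
  rcases h5 with h6 | h6 | h6 | h6 | ⟨-, h6⟩
  · left; rw [← hE]; exact h6
  · right; left; exact h6
  · right; right; left; exact h6
  · right; right; right; left; exact h6
  · right; right; right; right; exact h6

end Cfsg.Agent.H375.LThree
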