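import Mathlib
import Cfsg.Agent.H375.LThree.ElimA
import Cfsg.Agent.S1159

set_option autoImplicit false

/-!
# Elimination of the Ree groups
-/

namespace Cfsg.Agent.H375.LThree

/-- **Ree groups.** -/
theorem not_ree {q : ℕ} {S : Type*} [Group S] (hS : Lie.IsoRee S) : ¬ Ctx q S := by
  intro h
  obtain ⟨K, _, _, m, hm, hK, ⟨e⟩⟩ := hS
  have h' : Ctx q ↥(Cfsg.Lie.twistedG2 K (3 ^ m)) := h.congr e
  have hsp := Cfsg.Agent.S1159.result (K := K) hm hK
  have hq2 := h.pow.two_le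
  have hqe := h.pow.even
  obtain ⟨t, ht, ht3⟩ : ∃ t, 3 ^ m = t ∧ 3 ≤ t := ⟨3 ^ m, rfl, by
    calc 3 = 3 ^ 1 := by norm_num
      _ ≤ 3 ^ m := Nat.pow_le_pow_right (by norm_num) hm⟩
  have htodd : t % 2 = 1 := by
    rw [← ht]
    have : Odd (3 ^ m) := Odd.pow (by decide)
    exact Nat.odd_iff.mp this
  have e1 : 3 ^ (2 * m + 1) = 3 * (t * t) := by rw [pow_succ, two_mul, pow_add, ht]; ring
  have e2 : 3 ^ (m + 1) = 3 * t := by rw [pow_succ, ht]; ring
  rw [e1, e2] at hsp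
  have htt : 3 * t ≤ t * t := Nat.mul_le_mul_right t ht3
  have htt2 : t * t % 2 = 1 := by rw [Nat.mul_mod, htodd]
  have o6 : Om q 6 := h'.om_of ((hsp 6).mpr (Or.inl dvd_rfl))
  have o1 : Om q (3 * (t * t) - 1) := h'.om_of ((hsp _).mpr (Or.inr (Or.inr (Or.inl dvd_rfl))))
  have o2 : Om q ((3 * (t * t) + 1) / 2) := h'.om_of ((hsp _).mpr (Or.inr (Or.inr (Or.inr (Or.inl dvd_rfl)))))
  have htt4 : t * t % 8 = 1 := by
    rcases (show t % 8 = 1 ∨ t % 8 = 3 ∨ t % 8 = 5 ∨ t % 8 = 7 by omega) with h4 | h4 | h4 | h4 <;> rw [Nat.mul_mod, h4]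
  have p6 : 6 ∣ 2 * ee q := by
    rcases om_even hqe (by omega) o6 (by norm_num) with h4 | h4
    · exact h4
    · exact absurd h4 (by norm_num)
  have p1 : 3 * (t * t) - 1 ∣ 2 * ee q := by
    rcases om_even hqe (by omega) o1 (by omega) with h4 | h4
    · exact h4
    · have := Nat.le_of_dvd (by norm_num) h4
      omega
  have p2 : (3 * (t * t) + 1) / 2 ∣ 2 * ee q := by
    rcases om_even hqe (by omega) o2 (by omega) with h4 | h4
    · exact h4
    · have := Nat.le_of_dvd (by norm_num) h4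
      omega
  have p3 : 3 ∣ ee q := by omega
  have hee := ee_dvd q
  have hdd : dd q = 3 := by
    have h4 : 3 ∣ q - 1 := p3.trans hee
    exact (dd_eq_three_iff (by omega)).mpr (by omega)
  have hee2 : 3 * ee q = q - 1 := by
    have := dd_mul_ee q
    rwa [hdd] at this
  -- coprimality
  have hcop : Nat.Coprime (q + 1) (2 * ee q) := by
    by_contra hc
    obtain ⟨p, hp, h4, h5⟩ := Nat.Prime.not_coprime_iff_dvd.mp hc
    obtain ⟨h6, h7, -⟩ := prime_qq h.pow hp h4
    rcases hp.dvd_mul.mp h5 with h8 | h8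
    · exact h6 ((Nat.prime_dvd_prime_iff_eq hp Nat.prime_two).mp h8)
    · exact h7 (h8.trans hee)
  have hne : ∀ n, q + 1 ∣ n → n ∣ 2 * ee q → False := by
    intro n h4 h5
    have := Nat.eq_one_of_dvd_coprimes hcop dvd_rfl (h4.trans h5)
    omega
  have hle := Nat.le_of_dvd (by omega) p1
  rcases (hsp _).mp h'.qq with h4 | h4 | h4 | h4 | h4 | h4
  · exact hne _ h4 p6
  · have h5 : q + 1 ∣ 3 := by
      have h6 : Nat.Coprime (q + 1) 3 := by
        rw [Nat.coprime_comm]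
        exact (Nat.Prime.coprime_iff_not_dvd Nat.prime_three).mpr (by omega)
      exact absurd (Nat.eq_one_of_dvd_coprimes (h6.pow_right 2) dvd_rfl (by simpa using h4)) (by omega)
    have := Nat.le_of_dvd (by norm_num) h5
    omega
  · exact hne _ h4 p1
  · exact hne _ h4 p2
  · have := Nat.le_of_dvd (by omega) h4
    omega
  · have := Nat.le_of_dvd (by omega) h4
    omega

end Cfsg.Agent.H375.LThree
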