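import Mathlib
import Cfsg.Agent.H375.LThree.ElimA
import Cfsg.Agent.H374.SpFour

set_option autoImplicit false

/-!
# Elimination of `PSp(4, 2^k)`
-/

namespace Cfsg.Agent.H375.LThree

theorem arith_sp {q u : ℕ} (h : PowTwo q) (hu : 2 ∣ u) (h4 : 4 ≤ u) (o1 : Om q (2 * (u - 1))) (o2 : Om q (2 * (u + 1)))
    (o3 : Om q (u ^ 2 + 1)) {p r : ℕ} (hp : p.Prime) (hpn : p ∣ nn q) (hr : r.Prime) (hrn : r ∣ q + 1)
    (hn : Cfsg.Agent.H374.Quad.Om 2 u p) (hq : Cfsg.Agent.H374.Quad.Om 2 u r) : False := by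
  have hg : Nat.gcd 2 (u - 1) = 1 := by
    have : Nat.Coprime 2 (u - 1) := (Nat.Prime.coprime_iff_not_dvd Nat.prime_two).mpr (by omega)
    exact this
  have claim : ∀ p, p.Prime → (p ∣ nn q ∨ p ∣ q + 1) → p ≠ 2 ∧ ¬ p ∣ u - 1 ∧ ¬ p ∣ u + 1 := by
    intro p hp hpn
    refine ⟨?_, fun h5 => ?_, fun h5 => ?_⟩
    · rintro rfl
      rcases hpn with h5 | h5
      · exact nn_odd h h5
      · have := h.even
        omega
    · exact om_not_two_mul h hp hpn o1 (h5.mul_left 2) (Dvd.intro _ rfl)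
    · exact om_not_two_mul h hp hpn o2 (h5.mul_left 2) (Dvd.intro _ rfl)
  have step : ∀ p n, p.Prime → (p ∣ nn q ∨ p ∣ q + 1) → p ∣ n → Cfsg.Agent.H374.Quad.Om 2 u n → n ∣ u ^ 2 + 1 := by
    intro p n hp hpn hpd hOm
    obtain ⟨h5, h6, h7⟩ := claim p hp hpn
    have h8 : ¬ p ∣ 2 := fun h9 => h5 ((Nat.prime_dvd_prime_iff_eq hp Nat.prime_two).mp h9)
    rcases hOm with h9 | h9 | h9 | h9 | ⟨h9, -⟩ | ⟨-, h9⟩
    · rcases hp.dvd_mul.mp (hpd.trans h9) with h10 | h10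
      · exact absurd h10 h8
      · exact absurd h10 h6
    · rcases hp.dvd_mul.mp (hpd.trans h9) with h10 | h10
      · exact absurd h10 h8
      · exact absurd h10 h7
    · rw [hg, Nat.div_one] at h9
      have h10 : p ∣ (u + 1) * (u - 1) := by
        rw [← Nat.sq_sub_sq, one_pow]; exact hpd.trans h9
      rcases hp.dvd_mul.mp h10 with h11 | h11
      · exact absurd h11 h7
      · exact absurd h11 h6
    · rw [hg, Nat.div_one] at h9
      exact h9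
    · omega
    · have h10 : p ∣ 2 ^ 2 := (hpd.trans h9).trans (by norm_num)
      exact absurd (hp.dvd_of_dvd_pow h10) h8
  have h1 := step p _ hp (Or.inl hpn) dvd_rfl hn
  have h2 := step r _ hr (Or.inr hrn) dvd_rfl hq
  have h3 := om_nn h hp hpn o3 h1
  exact (prime_qq h hr hrn).2.2 (h2.trans h3)

/-- **`PSp(4, 2^k)`, `k ≥ 2`.** -/
theorem not_psp_four' {q : ℕ} {F : Type*} [Field F] [Fintype F] (h2 : (2 : F) = 0) (h4 : 4 ≤ Fintype.card F)
    (h : PowTwo q) (hOm : ∀ s : Cfsg.PSp 2 F, Om q (orderOf s)) {p r : ℕ} (hp : p.Prime) (hpn : p ∣ nn q) (hr : r.Prime)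
    (hrn : r ∣ q + 1) (ep : ∃ s : Cfsg.PSp 2 F, orderOf s = p) (er : ∃ s : Cfsg.PSp 2 F, orderOf s = r) : False := by
  have hof : ∀ n, (∃ s : Cfsg.PSp 2 F, orderOf s = n) → Om q n := by
    rintro n ⟨s, rfl⟩
    exact hOm s
  have hch : CharP F 2 := CharTwo.of_one_ne_zero_of_two_eq_zero one_ne_zero h2
  have hrc : ringChar F = 2 := (ringChar.eq_iff).mpr hch
  have hsp := Cfsg.Agent.H374.SpFour.mem_range_iff (F := F) (by omega)
  rw [hrc] at hsp
  have hev : 2 ∣ Fintype.card F := by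
    obtain ⟨k, -, hk⟩ := FiniteField.card F 2
    rw [hk]; exact dvd_pow_self 2 k.ne_zero
  refine arith_sp h hev h4 (hof _ ((hsp _).mpr (Or.inl dvd_rfl))) (hof _ ((hsp _).mpr (Or.inr (Or.inl dvd_rfl))))
    (hof _ ((hsp _).mpr (Or.inr (Or.inr (Or.inr (Or.inl ?_)))))) hp hpn hr hrn ((hsp _).mp ep) ((hsp _).mp er)
  have hg : Nat.gcd 2 (Fintype.card F - 1) = 1 := by
    have : Nat.Coprime 2 (Fintype.card F - 1) := (Nat.Prime.coprime_iff_not_dvd Nat.prime_two).mpr (by omega)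
    exact this
  rw [hg, Nat.div_one]

theorem not_psp_four {q : ℕ} {F : Type*} [Field F] [Fintype F] (h2 : (2 : F) = 0) (h4 : 4 ≤ Fintype.card F) :
    ¬ Ctx q (Cfsg.PSp 2 F) := by
  intro h
  obtain ⟨p, hp, hpn⟩ := exists_prime_nn h.pow
  obtain ⟨r, hr, hrn⟩ := exists_prime_qq h.pow
  have hof : ∀ n k, k ∣ n → n ≠ 0 → (∃ s : Cfsg.PSp 2 F, orderOf s = n) → ∃ s : Cfsg.PSp 2 F, orderOf s = k := by
    rintro n k hk hn ⟨s, rfl⟩
    exact ⟨s ^ (orderOf s / k), orderOf_pow_orderOf_div hn hk⟩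
  exact not_psp_four' h2 h4 h.pow h.om hp hpn hr hrn
    (hof _ _ hpn (by have := seven_le_nn h.pow; omega) h.nn) (hof _ _ hrn (by omega) h.qq)

end Cfsg.Agent.H375.LThree
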