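import Mathlib
import Cfsg.Agent.H375.LThree.ElimA

set_option autoImplicit false

/-!
# Elimination of the sporadic groups: the numerical part
-/

namespace Cfsg.Agent.H375.LThree

instance decOm (q n : ℕ) : Decidable (Om q n) := by unfold Om; infer_instance

/-- The numerical test for one exponent. -/
def SporTest1 (N m : ℕ) : Prop :=
  m = 0 ∨ ¬ nn (2 ^ m) ∣ N ∨ ¬ 2 ^ m + 1 ∣ N ∨ (5 ∣ N ∧ ¬ Om (2 ^ m) 5) ∨ (11 ∣ N ∧ ¬ Om (2 ^ m) 11) ∨
    (13 ∣ N ∧ ¬ Om (2 ^ m) 13) ∨ (17 ∣ N ∧ ¬ Om (2 ^ m) 17)

instance decSporTest1 (N m : ℕ) : Decidable (SporTest1 N m) := by unfold SporTest1; infer_instance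

/-- The numerical test. -/
def SporTest (N : ℕ) : Prop := ∀ m < 92, SporTest1 N m

instance decSporTest (N : ℕ) : Decidable (SporTest N) := by unfold SporTest; infer_instance

theorem exists_of_prime {S : Type*} [Group S] [Finite S] {p : ℕ} (hp : p.Prime) (h : p ∣ Nat.card S) :
    ∃ s : S, orderOf s = p := by
  have : Fact p.Prime := ⟨hp⟩
  exact exists_prime_orderOf_dvd_card' p h

/-- the bound for the exponent -/
theorem exponent_lt {q m N B : ℕ} (hq : q = 2 ^ m) (hm : 1 ≤ m) (hd : nn q ∣ N) (h0 : 0 < N) (hB : 3 * N < 4 ^ B) :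
    m < B := by
  have h : PowTwo q := ⟨m, hm, hq⟩
  have h1 := dd_mul_nn' h
  have h2 : dd q ≤ 3 := Nat.le_of_dvd (by norm_num) (dd_dvd_three q)
  have h3 := Nat.le_of_dvd h0 hd
  by_contra hlt
  push Not at hlt
  have h4 : 4 ^ B ≤ 4 ^ m := Nat.pow_le_pow_right (by norm_num) hlt
  have h5 : 4 ^ m = q * q := by rw [hq, ← mul_pow]; norm_num
  have h6 : dd q * nn q ≤ 3 * N := Nat.mul_le_mul h2 h3
  have h7 : q * (q + 1) = q * q + q := by ring
  omega

theorem not_of_test {q N : ℕ} {S : Type*} [Group S] (hN : Nat.card S = N) (h0 : 0 < N) (hB : 3 * N < 4 ^ 92)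
    (hT : SporTest N) : ¬ Ctx q S := by
  intro h
  have : Finite S := Nat.finite_of_card_ne_zero (by omega)
  obtain ⟨m, hm, hq⟩ := h.pow
  have h1 := h.nn_dvd
  have h2 := h.qq_dvd
  rw [hN] at h1 h2
  have h3 := exponent_lt hq hm h1 h0 hB
  rw [hq] at h1 h2
  rcases hT m h3 with h4 | h4 | h4 | ⟨h4, h5⟩ | ⟨h4, h5⟩ | ⟨h4, h5⟩ | ⟨h4, h5⟩
  · omega
  · exact h4 h1
  · exact h4 h2
  all_goals rw [← hq] at h5; rw [← hN] at h4
  · exact h5 (h.om_of (exists_of_prime (by norm_num) h4))
  · exact h5 (h.om_of (exists_of_prime (by norm_num) h4))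
  · exact h5 (h.om_of (exists_of_prime (by norm_num) h4))
  · exact h5 (h.om_of (exists_of_prime (by norm_num) h4))

/-- `J₂` -/
theorem not_of_sixty {q : ℕ} {S : Type*} [Group S] (hN : Nat.card S = 604800) (h6 : ∃ s : S, orderOf s = 6) :
    ¬ Ctx q S := by
  intro h
  have : Finite S := Nat.finite_of_card_ne_zero (by omega)
  obtain ⟨m, hm, hq⟩ := h.pow
  have h1 := h.nn_dvd
  have h2 := h.qq_dvd
  rw [hN] at h1 h2
  have h3 := exponent_lt (B := 11) hq hm h1 (by norm_num) (by norm_num)
  rw [hq] at h1 h2
  have hT : ∀ m < 11, 1 ≤ m → nn (2 ^ m) ∣ 604800 → 2 ^ m + 1 ∣ 604800 → m = 1 ∨ m = 2 := by decide +kernel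
  rcases hT m h3 hm h1 h2 with rfl | rfl
  · have := h.om_of h6
    rw [hq] at this
    have := om_two_small this
    omega
  · have := h.om_of h6
    rw [hq] at this
    have := om_four_small this
    omega

theorem t_m11 : SporTest 7920 := by decide +kernel
theorem t_m12 : SporTest 95040 := by decide +kernel
theorem t_m22 : SporTest 443520 := by decide +kernel
theorem t_m23 : SporTest 10200960 := by decide +kernel
theorem t_m24 : SporTest 244823040 := by decide +kernel
theorem t_j1 : SporTest 175560 := by decide +kernel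
theorem t_j3 : SporTest 50232960 := by decide +kernel
theorem t_j4 : SporTest 86775571046077562880 := by decide +kernel
theorem t_hs : SporTest 44352000 := by decide +kernel
theorem t_he : SporTest 4030387200 := by decide +kernel
theorem t_mcl : SporTest 898128000 := by decide +kernel
theorem t_suz : SporTest 448345497600 := by decide +kernel
theorem t_ly : SporTest 51765179004000000 := by decide +kernel
theorem t_on : SporTest 460815505920 := by decide +kernel
theorem t_ru : SporTest 145926144000 := by decide +kernel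
theorem t_co1 : SporTest 4157776806543360000 := by decide +kernel
theorem t_co2 : SporTest 42305421312000 := by decide +kernel
theorem t_co3 : SporTest 495766656000 := by decide +kernel
theorem t_fi22 : SporTest 64561751654400 := by decide +kernel
theorem t_fi23 : SporTest 4089470473293004800 := by decide +kernel
theorem t_fi24 : SporTest 1255205709190661721292800 := by decide +kernel
theorem t_th : SporTest 90745943887872000 := by decide +kernel
theorem t_hn : SporTest 273030912000000 := by decide +kernel
theorem t_b : SporTest 4154781481226426191177580544000000 := by decide +kernel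
theorem t_m : SporTest 808017424794512875886459904961710757005754368000000000 := by decide +kernel

end Cfsg.Agent.H375.LThree
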