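import Mathlib
import Cfsg.Agent.H375.LThree.ArithSpor
import Cfsg.Agent.NotCT.Orders
import Cfsg.Agent.H308.JSetup

set_option autoImplicit false

/-!
# Elimination of the sporadic groups
-/

namespace Cfsg.Agent.H375.LThree

open Subgroup Cfsg.Agent.NotCT.Orders

theorem j2_six : ∃ s : Cfsg.Spor.J2, orderOf s = 6 := by
  obtain ⟨z, -, hz, -, -, hc⟩ := Cfsg.Agent.H308.JSetup.exists_invol
  have hf : Finite ↥(centralizer ({z} : Set Cfsg.Spor.J2)) := Nat.finite_of_card_ne_zero (by rw [hc]; norm_num)
  obtain ⟨c, hc3⟩ := exists_of_prime (p := 3) (S := ↥(centralizer ({z} : Set Cfsg.Spor.J2))) (by norm_num)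
    (by rw [hc]; norm_num)
  have hcomm : Commute z (c : Cfsg.Spor.J2) := by
    have := mem_centralizer_singleton_iff.mp c.2
    exact this.symm
  refine ⟨z * c, ?_⟩
  rw [hcomm.orderOf_mul_eq_mul_orderOf_of_coprime (by rw [hz, Subgroup.orderOf_coe, hc3]; norm_num), hz,
    Subgroup.orderOf_coe, hc3]

/-- **Sporadic groups.** -/
theorem not_sporadic {q : ℕ} {S : Type*} [Group S] (hS : IsSporadicGroup S) : ¬ Ctx q S := by
  rcases hS with h | h | h | h | h | h | h | h | h | h | h | h | h | h | h | h | h | h | h | h | h | h | h | h | h | h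
  · exact not_of_test (m11 h) (by norm_num) (by norm_num) t_m11
  · exact not_of_test (m12 h) (by norm_num) (by norm_num) t_m12
  · exact not_of_test (m22 h) (by norm_num) (by norm_num) t_m22
  · exact not_of_test (m23 h) (by norm_num) (by norm_num) t_m23
  · exact not_of_test (m24 h) (by norm_num) (by norm_num) t_m24
  · exact not_of_test (j1 h) (by norm_num) (by norm_num) t_j1
  · obtain ⟨e⟩ := id h
    exact not_of_sixty (j2 h) (by
      obtain ⟨s, hs⟩ := j2_six
      exact ⟨e.symm s, by rw [MulEquiv.orderOf_eq, hs]⟩)
  · exact not_of_test (j3 h) (by norm_num) (by norm_num) t_j3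
  · exact not_of_test (j4 h) (by norm_num) (by norm_num) t_j4
  · exact not_of_test (co1 h) (by norm_num) (by norm_num) t_co1
  · exact not_of_test (co2 h) (by norm_num) (by norm_num) t_co2
  · exact not_of_test (co3 h) (by norm_num) (by norm_num) t_co3
  · exact not_of_test (mcl h) (by norm_num) (by norm_num) t_mcl
  · exact not_of_test (hs h) (by norm_num) (by norm_num) t_hs
  · exact not_of_test (suz h) (by norm_num) (by norm_num) t_suz
  · exact not_of_test (he h) (by norm_num) (by norm_num) t_he
  · exact not_of_test (ru h) (by norm_num) (by norm_num) t_ru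
  · exact not_of_test (on h) (by norm_num) (by norm_num) t_on
  · exact not_of_test (ly h) (by norm_num) (by norm_num) t_ly
  · exact not_of_test (fi22 h) (by norm_num) (by norm_num) t_fi22
  · exact not_of_test (fi23 h) (by norm_num) (by norm_num) t_fi23
  · exact not_of_test (fi24 h) (by norm_num) (by norm_num) t_fi24
  · exact not_of_test (hn h) (by norm_num) (by norm_num) t_hn
  · exact not_of_test (th h) (by norm_num) (by norm_num) t_th
  · exact not_of_test (b h) (by norm_num) (by norm_num) t_b
  · exact not_of_test (m h) (by norm_num) (by norm_num) t_m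

end Cfsg.Agent.H375.LThree
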