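import Mathlib
import Cfsg.Agent.H375.LThree.Arith

set_option autoImplicit false

/-!
# Suzuki groups: the numerical part
-/

namespace Cfsg.Agent.H375.LThree

set_option maxHeartbeats 1600000 in
/-- The numerical contradiction for the Suzuki groups: `u = 2^(2n+1)`, `s = 2^(n+1)`. -/
theorem arith_sz {q u s a1 a2 a3 : ℕ} (h : PowTwo q) (h1 : u = a1 + 1) (h2 : a2 = u + s + 1) (h3 : u + 1 = a3 + s)
    (hs : s * s = 2 * u) (hu : u = 8 ∧ s = 4 ∨ 32 ∣ u ∧ 8 ∣ s) (hu3 : u % 3 = 2)
    (o1 : Om q a1) (o2 : Om q a2) (o3 : Om q a3) (hd : nn q ∣ a1 * a2 * a3) (hd' : q + 1 ∣ a1 * a2 * a3)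
    (h0 : 0 < u) : False := by
  have hprod : a2 * a3 = u * u + 1 := by
    have : a2 * a3 + (u + s + 1) * s = (u + s + 1) * (u + 1) := by
      rw [h2, h3]; ring
    nlinarith
  have hq4 := h.two_le
  have hqe := h.even
  -- `3` does not divide the product
  have h3n : ¬ 3 ∣ a1 * a2 * a3 := by
    rw [mul_assoc, hprod]
    intro h4
    rcases Nat.prime_three.dvd_mul.mp h4 with h5 | h5
    · omega
    · have : u * u % 3 = 1 := by rw [Nat.mul_mod, hu3]
      omega
  have hq3 : q % 3 = 1 := by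
    rcases h.mod_three with h4 | h4
    · exact h4
    · exact absurd ((by omega : 3 ∣ q + 1).trans hd') h3n
  have hdd : dd q = 3 := (dd_eq_three_iff (by omega)).mpr hq3
  have key : 3 * nn q = q * q + q + 1 := by
    have := dd_mul_nn q (by omega)
    rw [hdd] at this
    rw [this]; ring
  have hq8 : q = 4 ∨ 16 ∣ q := by
    rcases h.cases with h4 | h4 | h4 | h4
    · omega
    · exact Or.inl h4
    · omega
    · exact Or.inr h4
  -- bounds
  have hs4 : 4 ≤ s := by
    rcases hu with ⟨h4, h5⟩ | ⟨h4, h5⟩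
    · omega
    · have : s ≠ 0 := by rintro rfl; omega
      omega
  have hus : 2 * s ≤ u := by nlinarith
  have hmod8 : 8 ∣ u := by
    rcases hu with ⟨h4, h5⟩ | ⟨h4, h5⟩
    · omega
    · exact (by norm_num : 8 ∣ 32).trans h4
  have hmod4 : 4 ∣ s := by
    rcases hu with ⟨h4, h5⟩ | ⟨h4, h5⟩
    · omega
    · exact (by norm_num : 4 ∣ 8).trans h5
  have hqq4 : 4 ∣ q := by
    rcases hq8 with h4 | h4
    · omega
    · exact (by norm_num : 4 ∣ 16).trans h4
  have hqq16 : 16 ∣ q * q := by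
    obtain ⟨j, hj⟩ := hqq4
    exact ⟨j * j, by rw [hj]; ring⟩
  have hss : 4 ∣ s * s := hmod4.mul_right _
  have huu : 64 ∣ u * u := by
    obtain ⟨j, hj⟩ := hmod8
    exact ⟨j * j, by rw [hj]; ring⟩
  -- coprimality
  have hodd1 : ¬ 2 ∣ a1 := by omega
  have hodd2 : ¬ 2 ∣ a2 := by omega
  have c23 : Nat.Coprime a2 a3 := by
    by_contra hc
    obtain ⟨p, hp, p2, p3⟩ := Nat.Prime.not_coprime_iff_dvd.mp hc
    have e1 : p ∣ 2 * s := by
      have : a2 = a3 + 2 * s := by omega
      rw [this] at p2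
      exact (Nat.dvd_add_right p3).mp p2
    have hp2 : p ≠ 2 := by rintro rfl; exact hodd2 p2
    have e2 : p ∣ s := by
      rcases hp.dvd_mul.mp e1 with h4 | h4
      · exact absurd ((Nat.prime_dvd_prime_iff_eq hp Nat.prime_two).mp h4) hp2
      · exact h4
    have e3 : p ∣ u := by
      rcases hp.dvd_mul.mp ((hs ▸ e2.mul_right s : p ∣ 2 * u)) with h4 | h4
      · exact absurd ((Nat.prime_dvd_prime_iff_eq hp Nat.prime_two).mp h4) hp2
      · exact h4
    have e4 : p ∣ 1 := by
      rw [h2] at p2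
      exact (Nat.dvd_add_right (e3.add e2)).mp p2
    exact hp.one_lt.ne' (Nat.dvd_one.mp e4)
  have c1 : Nat.Coprime a1 (a2 * a3) := by
    by_contra hc
    obtain ⟨p, hp, p1, p2⟩ := Nat.Prime.not_coprime_iff_dvd.mp hc
    rw [hprod] at p2
    have e1 : u * u + 1 = a1 * (a1 + 2) + 2 := by rw [h1]; ring
    rw [e1] at p2
    have e2 : p ∣ 2 := (Nat.dvd_add_right (p1.mul_right _)).mp p2
    have e3 := (Nat.prime_dvd_prime_iff_eq hp Nat.prime_two).mp e2
    exact hodd1 (e3 ▸ p1)
  have c12 : Nat.Coprime a1 a2 := c1.coprime_dvd_right (Dvd.intro _ rfl)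
  have c13 : Nat.Coprime a1 a3 := c1.coprime_dvd_right (Dvd.intro_left _ rfl)
  have hn7 := seven_le_nn h
  rcases dvd_nn_or_coprime h o1 with i1 | i1 <;> rcases dvd_nn_or_coprime h o2 with i2 | i2 <;>
    rcases dvd_nn_or_coprime h o3 with i3 | i3
  · -- {1,2,3}
    have e1 : Nat.Coprime (q + 1) (a1 * a2 * a3) :=
      (((coprime_nn_qq h).coprime_dvd_left i1).symm.mul_right
        ((coprime_nn_qq h).coprime_dvd_left i2).symm).mul_right ((coprime_nn_qq h).coprime_dvd_left i3).symm
    have := Nat.eq_one_of_dvd_coprimes e1 dvd_rfl hd'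
    omega
  · -- {1,2}
    have e1 : nn q = a1 * a2 := by
      apply Nat.dvd_antisymm
      · exact Nat.Coprime.dvd_of_dvd_mul_right i3.symm hd
      · exact Nat.Coprime.mul_dvd_of_dvd_of_dvd c12 i1 i2
    have e2 : Nat.Coprime (q + 1) (a1 * a2) :=
      ((coprime_nn_qq h).coprime_dvd_left i1).symm.mul_right
        ((coprime_nn_qq h).coprime_dvd_left i2).symm
    have e3 : q + 1 ∣ a3 := Nat.Coprime.dvd_of_dvd_mul_left e2 hd'
    have e4 := Nat.le_of_dvd (by omega) e3
    rw [e1] at key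
    have e5 : a3 ≤ a1 := by omega
    have e6 : a3 ≤ a2 := by omega
    have e7 : (q + 1) * (q + 1) ≤ a1 * a2 := Nat.mul_le_mul (e4.trans e5) (e4.trans e6)
    nlinarith
  · -- {1,3}
    have e1 : nn q = a1 * a3 := by
      apply Nat.dvd_antisymm
      · exact Nat.Coprime.dvd_of_dvd_mul_right i2.symm (by rw [mul_right_comm]; exact hd)
      · exact Nat.Coprime.mul_dvd_of_dvd_of_dvd c13 i1 i3
    rw [e1] at key
    have e2 : a1 * a3 + (s * u + 1) = u * u + s := by
      have h4 : a1 * a3 + a1 * s + a3 + s = u * u + u := by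
        have : (a1 + 1) * (a3 + s) = u * (u + 1) := by rw [← h1, ← h3]
        have e3 : (a1 + 1) * (a3 + s) = a1 * a3 + a1 * s + a3 + s := by ring
        have e4 : u * (u + 1) = u * u + u := by ring
        omega
      have h5 : a1 * s + s = s * u := by rw [h1]; ring
      omega
    have hsu : 32 ∣ s * u := by
      obtain ⟨j, hj⟩ := hmod8
      obtain ⟨i, hi⟩ := hmod4
      exact ⟨i * j, by rw [hi, hj]; ring⟩
    rcases hq8 with h4 | h4
    · subst h4
      have e5 : 4 * 8 ≤ s * u := Nat.mul_le_mul hs4 (by omega)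
      have e6 : 2 * s * u ≤ u * u := Nat.mul_le_mul_right u hus
      have e7 : 2 * s * u = 2 * (s * u) := by ring
      omega
    · have h5 : 16 ∣ q * q := hqq16
      rcases hu with ⟨h6, h7⟩ | ⟨h6, h7⟩
      · omega
      · omega
  · -- {1}
    have e1 : nn q = a1 := by
      apply Nat.dvd_antisymm
      · exact Nat.Coprime.dvd_of_dvd_mul_right i2.symm (Nat.Coprime.dvd_of_dvd_mul_right i3.symm hd)
      · exact i1
    rw [e1] at key
    rcases hq8 with h4 | h4
    · subst h4
      have h5 : u = 8 := by omega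
      have h6 : s = 4 := by omega
      have h7 : a2 = 13 := by omega
      rw [h7] at o2
      have := om_four_small o2
      omega
    · omega
  · -- {2,3}
    have e1 : nn q = a2 * a3 := by
      apply Nat.dvd_antisymm
      · exact Nat.Coprime.dvd_of_dvd_mul_left i1.symm (by rw [← mul_assoc]; exact hd)
      · exact Nat.Coprime.mul_dvd_of_dvd_of_dvd c23 i2 i3
    rw [e1, hprod] at key
    omega
  · -- {2}
    have e1 : nn q = a2 := by
      apply Nat.dvd_antisymm
      · exact Nat.Coprime.dvd_of_dvd_mul_left i1.symm (Nat.Coprime.dvd_of_dvd_mul_right i3.symm hd)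
      · exact i2
    rw [e1] at key
    omega
  · -- {3}
    have e1 : nn q = a3 := by
      apply Nat.dvd_antisymm
      · exact Nat.Coprime.dvd_of_dvd_mul_left (i1.symm.mul_right i2.symm) hd
      · exact i3
    rw [e1] at key
    omega
  · -- ∅
    have := Nat.eq_one_of_dvd_coprimes ((i1.symm.mul_right i2.symm).mul_right i3.symm) dvd_rfl hd
    omega

end Cfsg.Agent.H375.LThree
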