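import Mathlib
import Cfsg.Agent.H375.LThree.ArithSz
import Cfsg.Agent.H375.LThree.ElimA
import Cfsg.Agent.OddCyclic.ClaimC.SzIso
import Cfsg.Agent.S0333
import Cfsg.Agent.S0328
import Cfsg.Agent.S1163

set_option autoImplicit false

/-!
# Elimination of the Suzuki groups
-/

namespace Cfsg.Agent.H375.LThree

theorem exists_orderOf_of_cyclic {G : Type*} [Group G] {U : Subgroup G} (hU : IsCyclic U) {k : ℕ} (hk : Nat.card U = k) :
    ∃ g : G, orderOf g = k := by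
  obtain ⟨g, hg⟩ := hU.exists_generator
  refine ⟨(g : G), ?_⟩
  rw [Subgroup.orderOf_coe, orderOf_eq_card_of_forall_mem_zpowers hg, hk]

/-- **Suzuki groups.** -/
theorem not_suzuki {q : ℕ} {S : Type*} [Group S] (hS : Lie.IsoSuzuki S) : ¬ Ctx q S := by
  intro h
  obtain ⟨F, _, _, m, hm, hF, ⟨e⟩⟩ := hS
  obtain ⟨i⟩ := Cfsg.Agent.OddCyclic.ClaimC.SzIso.iso hm hF
  have h' : Ctx q (Cfsg.Sz F m) := h.congr (e.trans i.symm)
  have hcard : Nat.card (Cfsg.Sz F m) =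
      (2 ^ (2 * m + 1)) ^ 2 * (2 ^ (2 * m + 1) - 1) * ((2 ^ (2 * m + 1)) ^ 2 + 1) := by
    rw [Nat.card_congr i.toEquiv]
    exact (Cfsg.Agent.S1163.result hm hF).1
  have hU := Cfsg.Agent.S0333.result (F := F) hm hF
  obtain ⟨t, ht, ht4⟩ : ∃ t, 2 ^ m = t ∧ 2 ≤ t := ⟨2 ^ m, rfl, by
    calc 2 = 2 ^ 1 := by norm_num
      _ ≤ 2 ^ m := Nat.pow_le_pow_right (by norm_num) hm⟩
  have e1 : 2 ^ (2 * m + 1) = 2 * (t * t) := by rw [pow_succ, two_mul, pow_add, ht]; ring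
  have e2 : 2 ^ (m + 1) = 2 * t := by rw [pow_succ, ht]; ring
  have htt : 2 * t ≤ t * t := Nat.mul_le_mul_right t ht4
  have o2 : ∃ g : Cfsg.Sz F m, orderOf g = 2 ^ (2 * m + 1) + 2 ^ (m + 1) + 1 := by
    obtain ⟨U, hc, hk, -⟩ := hU _ (Set.mem_insert _ _)
    exact exists_orderOf_of_cyclic hc hk
  have o3 : ∃ g : Cfsg.Sz F m, orderOf g = 2 ^ (2 * m + 1) - 2 ^ (m + 1) + 1 := by
    obtain ⟨U, hc, hk, -⟩ := hU _ (Set.mem_insert_of_mem _ rfl)
    exact exists_orderOf_of_cyclic hc hk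
  have o1 : ∃ g : Cfsg.Sz F m, orderOf g = 2 ^ (2 * m + 1) - 1 := by
    obtain ⟨j⟩ := Cfsg.Agent.S0328.result (F := F) hm hF
    have hcyc : IsCyclic ↥(MulAction.stabilizer (Cfsg.Sz F m) (Cfsg.suzukiPointInfinity F) ⊓
        MulAction.stabilizer (Cfsg.Sz F m) (Cfsg.suzukiPointZero F)) :=
      isCyclic_of_surjective j.symm.toMonoidHom j.symm.surjective
    refine exists_orderOf_of_cyclic hcyc ?_
    rw [Nat.card_congr j.toEquiv, Nat.card_units, Nat.card_eq_fintype_card, hF]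
  have p1 := h'.om_of o1
  have p2 := h'.om_of o2
  have p3 := h'.om_of o3
  have d1 := h'.nn_dvd
  have d2 := h'.qq_dvd
  rw [hcard] at d1 d2
  have hq2 := h.pow.two_le
  have hqe := h.pow.even
  have c1 : Nat.Coprime (nn q) ((2 ^ (2 * m + 1)) ^ 2) := ((coprime_nn_two h.pow).pow_right _).pow_right _
  have c2 : Nat.Coprime (q + 1) ((2 ^ (2 * m + 1)) ^ 2) := by
    apply Nat.Coprime.pow_right
    apply Nat.Coprime.pow_right
    rw [Nat.coprime_comm]
    exact (Nat.Prime.coprime_iff_not_dvd Nat.prime_two).mpr (by omega)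
  rw [mul_assoc] at d1 d2
  have d3 := Nat.Coprime.dvd_of_dvd_mul_left c1 d1
  have d4 := Nat.Coprime.dvd_of_dvd_mul_left c2 d2
  have hmod : t * t % 3 = 1 := by
    have h3 : ¬ 3 ∣ t := by
      rw [← ht]
      exact fun h => absurd (Nat.prime_three.dvd_of_dvd_pow h) (by norm_num)
    rcases (show t % 3 = 1 ∨ t % 3 = 2 by omega) with h4 | h4 <;> rw [Nat.mul_mod, h4]
  have ht8 : t = 2 ∨ 4 ∣ t := by
    rcases (show m = 1 ∨ 2 ≤ m by omega) with rfl | h4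
    · left; rw [← ht]; norm_num
    · right; rw [← ht]; exact pow_dvd_pow 2 h4
  have hprod : (2 * (t * t) + 2 * t + 1) * (2 * (t * t) - 2 * t + 1) = (2 * (t * t)) ^ 2 + 1 := by
    obtain ⟨j, hj⟩ := Nat.exists_eq_add_of_le htt
    have h4 : 2 * (t * t) - 2 * t + 1 = (t * t) + j + 1 := by omega
    rw [h4]
    have h5 : (2 * (t * t) + 2 * t + 1) * (2 * t + ((t * t) + j + 1)) = (2 * (t * t) + 2 * t + 1) * (2 * (t * t) + 1) := by
      congr 1; omega
    nlinarith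
  rw [e1, e2] at p2 p3
  rw [e1] at p1 d3 d4
  rw [← hprod, ← mul_assoc] at d3 d4
  refine arith_sz h.pow (u := 2 * (t * t)) (s := 2 * t) (by omega) rfl (by omega) (by ring) ?_ (by omega) p1 p2 p3 d3 d4
    (by omega)
  rcases ht8 with rfl | ⟨j, rfl⟩
  · left; constructor <;> norm_num
  · right
    exact ⟨⟨j * j, by ring⟩, ⟨j, by ring⟩⟩

end Cfsg.Agent.H375.LThree
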