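import Mathlib
import Cfsg.Agent.H375.InvFixB
import Cfsg.Agent.H375.LThree.ElimB
import Cfsg.Agent.H375.LThree.Suz
import Cfsg.Agent.H375.LThree.Ree
import Cfsg.Agent.H375.LThree.SpFour
import Cfsg.Agent.H375.LThree.Psu
import Cfsg.Agent.H375.LThree.Spor
import Cfsg.Agent.H372.FourList
import Cfsg.Agent.H374.EightExc
import Cfsg.Agent.H679.Table
import Cfsg.Agent.H388.EvenFixAll
import Cfsg.Agent.H363.PslCard
import Cfsg.Agent.S0255

set_option autoImplicit false

/-!
# The socle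

`socle` : a known simple non-abelian normal subgroup `S` of `M`, where the element orders of `M` are element orders of
`L = PSL(3, q)`, `q` even, and `M` has elements of orders `(q² + q + 1)/d` and `q + 1`, is isomorphic to `L`.
-/

namespace Cfsg.Agent.H375.LThree

open Cfsg Cfsg.Agent.H375.Reduce

variable {M : Type*} [Group M] [Finite M]

omit [Finite M] in
/-- no elements of order `2 p` -/
theorem no_two_mul {q : ℕ} (h : PowTwo q) (hOm : ∀ g : M, Om q (orderOf g)) {p : ℕ} (hp : p.Prime)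
    (hpn : p ∣ nn q ∨ p ∣ q + 1) (g : M) : orderOf g ≠ 2 * p := by
  intro hg
  have h1 := hOm g
  rw [hg] at h1
  exact om_not_two_mul h hp hpn h1 (Dvd.intro_left _ rfl) (Dvd.intro _ rfl)

theorem ne_two {q : ℕ} (h : PowTwo q) {p : ℕ} (hp : p.Prime) (hpn : p ∣ nn q ∨ p ∣ q + 1) : p ≠ 2 := by
  rcases hpn with h1 | h1
  · exact (prime_nn h hp h1).1
  · exact (prime_qq h hp h1).1

/-- The context from the invariant classes of involutions. -/
theorem ctx_of_invFix {q : ℕ} (S : Subgroup M) [S.Normal] (h : PowTwo q) (hOm : ∀ g : M, Om q (orderOf g))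
    (hnn : ∃ g : M, orderOf g = nn q) (hqq : ∃ g : M, orderOf g = q + 1)
    (hinv : ∀ p, p.Prime → p ≠ 2 → InvFix p S) : Ctx q S := by
  have key : ∀ p, p.Prime → (p ∣ nn q ∨ p ∣ q + 1) → ¬ p ∣ S.index := by
    intro p hp hpn
    exact not_dvd_index' S hp (ne_two h hp hpn) (no_two_mul h hOm hp hpn) (hinv p hp (ne_two h hp hpn))
  refine ⟨h, ?_, ?_, ?_⟩
  · intro s
    rw [← Subgroup.orderOf_coe]
    exact hOm _
  · obtain ⟨g, hg⟩ := hnn
    have hc : Nat.Coprime (orderOf g) S.index := by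
      rw [hg]
      by_contra hc
      obtain ⟨p, hp, h1, h2⟩ := Nat.Prime.not_coprime_iff_dvd.mp hc
      exact key p hp (Or.inl h1) h2
    exact ⟨⟨g, mem_of_coprime S g hc⟩, by rw [← Subgroup.orderOf_coe]; exact hg⟩
  · obtain ⟨g, hg⟩ := hqq
    have hc : Nat.Coprime (orderOf g) S.index := by
      rw [hg]
      by_contra hc
      obtain ⟨p, hp, h1, h2⟩ := Nat.Prime.not_coprime_iff_dvd.mp hc
      exact key p hp (Or.inr h1) h2
    exact ⟨⟨g, mem_of_coprime S g hc⟩, by rw [← Subgroup.orderOf_coe]; exact hg⟩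

/-- the primes dividing `nn q` and `q + 1` divide `|S|` -/
theorem dvd_card_socle {q : ℕ} (S : Subgroup M) [S.Normal] [IsSimpleGroup S] (hna : ¬ IsMulCommutative S)
    (hk : IsKnownSimple' S) (h : PowTwo q) (hOm : ∀ g : M, Om q (orderOf g)) {p : ℕ} (hp : p.Prime)
    (hpn : p ∣ nn q ∨ p ∣ q + 1) (hpM : p ∣ Nat.card M) : p ∣ Nat.card S := by
  by_contra hcop
  have : Fact p.Prime := ⟨hp⟩
  obtain ⟨g, hg⟩ := exists_prime_orderOf_dvd_card' (G := M) p hpM
  have hx : (MulAut.conjNormal g : MulAut S) ^ p = 1 := by rw [← map_pow, ← hg, pow_orderOf_eq_one, map_one]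
  obtain ⟨t, ht, hfix⟩ := Cfsg.Agent.H388.EvenFixAll.exists_involution hna hk hp (ne_two h hp hpn) hcop _ hx
  have h1 : g * (t : M) * g⁻¹ = t := by
    have := congrArg Subtype.val hfix
    exact this
  have hc : Commute (t : M) g := by
    have : g * (t : M) = t * g := by
      calc g * (t : M) = g * t * g⁻¹ * g := by group
        _ = t * g := by rw [h1]
    exact this.symm
  obtain ⟨y, hy⟩ := exists_orderOf_mul (G := M) (a := 2) (b := p)
    ((Nat.coprime_primes Nat.prime_two hp).mpr (Ne.symm (ne_two h hp hpn))) hc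
    (by rw [Subgroup.orderOf_coe, ht]) (by rw [hg])
  exact no_two_mul h hOm hp hpn y hy

/-- **The socle.** -/
theorem socle {F : Type*} [Field F] [Fintype F] [CharP F 2] (S : Subgroup M) [S.Normal] [IsSimpleGroup S]
    (hna : ¬ IsMulCommutative S) (hk : IsKnownSimple' S) (h : PowTwo (Fintype.card F))
    (hOm : ∀ g : M, Om (Fintype.card F) (orderOf g)) (hnn : ∃ g : M, orderOf g = nn (Fintype.card F))
    (hqq : ∃ g : M, orderOf g = Fintype.card F + 1) :
    Nonempty (S ≃* Matrix.ProjectiveSpecialLinearGroup (Fin 3) F) := by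
  have hOmS : ∀ s : S, Om (Fintype.card F) (orderOf s) := by
    intro s
    rw [← Subgroup.orderOf_coe]
    exact hOm _
  have hbad : ¬ Cfsg.Agent.H372.Bad S := by
    rintro ⟨x, h1, h2, -⟩
    exact h2 (om_four_dvd h (hOmS x) h1)
  have hexc : IsExceptionalLieType S → Cfsg.Agent.H372.Bad S ∨ Lie.IsoSuzuki S ∨ Lie.IsoRee S := by
    intro he
    rcases Cfsg.Agent.H374.EightExc.exceptional he with h1 | h1
    · exact Or.inl (Cfsg.Agent.H372.bad_of_eight h1)
    · exact Or.inr h1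
  have h2S : 2 ∣ Nat.card S := (Cfsg.Agent.H388.EvenFixAll.even_card hna).two_dvd
  have ctx : (∀ p, p.Prime → p ≠ 2 → InvFix p S) → Ctx (Fintype.card F) S :=
    fun hinv => ctx_of_invFix S h hOm hnn hqq hinv
  rcases Cfsg.Agent.H372.listed_of_not_bad hk hexc hbad with h1 | h1 | h1 | h1 | h1 | h1 | h1 | h1 | h1 | h1
  · -- prime order
    exfalso
    have : Fact (Nat.card S).Prime := ⟨h1⟩
    have hcyc : IsCyclic S := isCyclic_of_prime_card rfl
    exact hna (isMulCommutative_iff.2 fun a b => by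
      let _ := hcyc.commGroup
      exact mul_comm a b)
  · -- alternating
    exfalso
    obtain ⟨n, h5, h8, ⟨e⟩⟩ := h1
    exact not_alt h5 h8 ((ctx fun p _ _ => InvFix.symm_congr e (invFix_alt_all h5 p)).congr e)
  · -- `PSL(2)`
    obtain ⟨K, _, _, h4, ⟨e⟩⟩ := h1
    obtain ⟨c, hch⟩ := CharP.exists K
    have hc : c.Prime := CharP.char_is_prime K c
    by_cases h2 : c = 2
    · exfalso
      subst h2
      exact not_psl_two_even h4 ((ctx fun p _ _ => InvFix.symm_congr e (invFix_psl_two_even p)).congr e)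
    · have hodd : Odd (Fintype.card K) := by
        have : Fact c.Prime := ⟨hc⟩
        obtain ⟨k, -, hk⟩ := FiniteField.card K c
        rw [hk]
        exact (hc.odd_of_ne_two h2).pow
      have hone := oneInv_psl_odd (F := K) hodd
      have h2K : 2 ∣ Nat.card (Matrix.ProjectiveSpecialLinearGroup (Fin 2) K) := by
        rw [← Nat.card_congr e.toEquiv]; exact h2S
      obtain ⟨hq2, h7⟩ := psl_two_odd hodd h4
        ((ctx fun p _ _ => InvFix.symm_congr e (hone.invFix h2K p)).congr e)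
      obtain ⟨f⟩ := Cfsg.Agent.S0255.result (F := K) (K := F) h7 hq2
      exact ⟨e.trans f⟩
  · -- `PSL(3)`
    obtain ⟨K, _, _, h2, ⟨e⟩⟩ := h1
    have hch : CharP K 2 := CharTwo.of_one_ne_zero_of_two_eq_zero one_ne_zero h2
    have hcard := psl_three ((ctx fun p _ _ => InvFix.symm_congr e (invFix_psl_three p)).congr e)
    have f : K ≃+* F := FiniteField.ringEquivOfCardEq hcard
    exact ⟨e.trans (Cfsg.Agent.H363.PslCard.pslEquiv f)⟩
  · -- `PSL(4, 2)`
    exfalso
    obtain ⟨K, _, _, hK, ⟨e⟩⟩ := h1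
    obtain ⟨f⟩ := Cfsg.Agent.S0256.result (F := K) hK
    exact not_alt (n := 8) (by norm_num) le_rfl
      ((ctx fun p _ _ => InvFix.symm_congr (e.trans f) (invFix_alt_all (by norm_num) p)).congr (e.trans f))
  · -- `PSU(3)`
    exfalso
    obtain ⟨K, _, _, k, hK, hk2, ⟨e⟩⟩ := h1
    have hone := oneInv_psu (F := K) (n := k) (by omega) hK
    have h2K : 2 ∣ Nat.card (PSU 3 K (2 ^ k)) := by rw [← Nat.card_congr e.toEquiv]; exact h2S
    have hfin : Finite (PSU 3 K (2 ^ k)) := Finite.of_equiv _ e.toEquiv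
    exact not_psu_three hk2 hK ((ctx fun p _ _ => InvFix.symm_congr e (hone.invFix h2K p)).congr e)
  · -- `PSp(4)`
    exfalso
    obtain ⟨K, _, _, h2, h4, ⟨e⟩⟩ := h1
    obtain ⟨p, hp, hpn⟩ := exists_prime_nn h
    obtain ⟨r, hr, hrn⟩ := exists_prime_qq h
    obtain ⟨g, hg⟩ := hnn
    obtain ⟨g', hg'⟩ := hqq
    have hpM : p ∣ Nat.card M := hpn.trans (by rw [← hg]; exact orderOf_dvd_natCard g)
    have hrM : r ∣ Nat.card M := hrn.trans (by rw [← hg']; exact orderOf_dvd_natCard g')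
    have ep := exists_of_prime hp (dvd_card_socle S hna hk h hOm hp (Or.inl hpn) hpM)
    have er := exists_of_prime hr (dvd_card_socle S hna hk h hOm hr (Or.inr hrn) hrM)
    refine not_psp_four' (F := K) h2 h4 h ?_ hp hpn hr hrn ?_ ?_
    · intro s
      rw [← MulEquiv.orderOf_eq e.symm]
      exact hOmS _
    · obtain ⟨s, hs⟩ := ep
      exact ⟨e s, by rw [MulEquiv.orderOf_eq, hs]⟩
    · obtain ⟨s, hs⟩ := er
      exact ⟨e s, by rw [MulEquiv.orderOf_eq, hs]⟩
  · -- Suzuki
    exfalso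
    refine not_suzuki h1 (ctx fun p _ _ => ?_)
    obtain ⟨K, _, _, m, hm, hK, ⟨e⟩⟩ := h1
    have h2K : 2 ∣ Nat.card (Lie.Sz K (2 ^ (m + 1))) := by rw [← Nat.card_congr e.toEquiv]; exact h2S
    exact InvFix.symm_congr e ((oneInv_sz hK).invFix h2K p)
  · -- Ree
    exfalso
    refine not_ree h1 (ctx fun p _ _ => ?_)
    obtain ⟨K, _, _, m, hm, hK, ⟨e⟩⟩ := h1
    exact InvFix.symm_congr e ((oneInv_ree hm hK).1.invFix (oneInv_ree hm hK).2 p)
  · -- sporadic
    exfalso
    exact not_sporadic h1 (ctx fun p hp hp2 => invFix_of_outTwo h2S hp hp2 (Cfsg.Agent.H679.outTwo_sporadic h1))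

end Cfsg.Agent.H375.LThree
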