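import Mathlib
import Cfsg.Agent.H375.LThree.Socle
import Cfsg.Agent.H375.LThree.Elems
import Cfsg.Agent.H375.LThree.OuterMain
import Cfsg.Agent.SignalizersComponents.ComponentExists
import Cfsg.Agent.S3633
import Cfsg.Agent.S4008
import Cfsg.Agent.S0000

set_option autoImplicit false

/-!
# Recognition of `PSL(3, q)`, `q` even, by its spectrum
-/

namespace Cfsg.Agent.H375.LThree

open Cfsg Cfsg.Agent.H375.Reduce Cfsg.Agent.H375.Cover

theorem main {G : Type*} [Group G] [Finite G] {F : Type*} [Field F] [Fintype F] [CharP F 2]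
    (h : Set.range (orderOf : G → ℕ) = Set.range (orderOf : Matrix.ProjectiveSpecialLinearGroup (Fin 3) F → ℕ)) :
    Nonempty (G ≃* Matrix.ProjectiveSpecialLinearGroup (Fin 3) F) := by
  have hpow : PowTwo (Fintype.card F) := by
    obtain ⟨k, -, hk⟩ := FiniteField.card F 2
    exact ⟨k, k.pos, hk⟩
  -- element orders
  have hωG : ∀ g : G, Om (Fintype.card F) (orderOf g) := by
    intro g
    have h1 : orderOf g ∈ Set.range (orderOf : G → ℕ) := ⟨g, rfl⟩
    rw [h] at h1
    obtain ⟨l, hl⟩ := h1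
    rw [← hl]
    exact om_orderOf l
  have hex : ∀ n, (∃ l : Matrix.ProjectiveSpecialLinearGroup (Fin 3) F, orderOf l = n) → ∃ g : G, orderOf g = n := by
    intro n hn
    have h1 : n ∈ Set.range (orderOf : Matrix.ProjectiveSpecialLinearGroup (Fin 3) F → ℕ) := hn
    rw [← h] at h1
    exact h1
  have hnn : ∃ g : G, orderOf g = nn (Fintype.card F) := hex _ exists_order_nn
  have hqq : ∃ g : G, orderOf g = Fintype.card F + 1 := by
    obtain ⟨l, hl⟩ := exists_order_xx (F := F)
    exact hex _ (exists_order_of_dvd (g := l) (by rw [hl]; exact Dvd.intro _ rfl))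
  have h4 : ∃ g : G, orderOf g = 4 := hex _ ⟨_, orderOf_un (F := F) (a := 1) (b := 1) (c := 0) (by simp)⟩
  have hdvd : ∀ n, (∃ g : G, orderOf g = n) → n ∣ Nat.card G := by
    rintro n ⟨g, rfl⟩
    exact orderOf_dvd_natCard g
  have h2G : 2 ∣ Nat.card G := (by norm_num : 2 ∣ 4).trans (hdvd _ h4)
  have hpG : ∀ p, (p ∣ nn (Fintype.card F) ∨ p ∣ Fintype.card F + 1) → p ∣ Nat.card G := by
    rintro p (h1 | h1)
    · exact h1.trans (hdvd _ hnn)
    · exact h1.trans (hdvd _ hqq)
  obtain ⟨s, hs, hsn⟩ := exists_prime_nn hpow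
  obtain ⟨r, hr, hrn⟩ := exists_prime_qq hpow
  -- cocliques
  have hcoc : ∀ p p', p.Prime → p'.Prime → p ∣ nn (Fintype.card F) → p' ∣ Fintype.card F + 1 →
      ∀ (K : Subgroup G), K.Normal → Group.IsSolvable K →
      (2 ∣ Nat.card K → ¬ p ∣ Nat.card K) ∧ (2 ∣ Nat.card K → ¬ p' ∣ Nat.card K) ∧ ¬ Group.IsSolvable G := by
    intro p p' hp hp' hpn hpn' K hK hsol
    have hp2 := ne_two hpow hp (Or.inl hpn)
    have hp2' := ne_two hpow hp' (Or.inr hpn')
    have hpp : p ≠ p' := by
      rintro rfl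
      exact (prime_nn hpow hp hpn).2.2.2 hpn'
    have n2p := no_two_mul hpow hωG hp (Or.inl hpn)
    have n2p' := no_two_mul hpow hωG hp' (Or.inr hpn')
    have npp : ∀ g : G, orderOf g ≠ p * p' := by
      intro g hg
      have h1 := hωG g
      rw [hg] at h1
      have h2 := om_nn hpow hp hpn h1 (Dvd.intro _ rfl)
      exact (prime_qq hpow hp' hpn').2.2 ((Dvd.intro_left _ rfl).trans h2)
    have hcard : ({2, p, p'} : Finset ℕ).card = 3 := by
      rw [Finset.card_eq_three]
      exact ⟨2, p, p', Ne.symm hp2, Ne.symm hp2', hpp, rfl⟩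
    obtain ⟨h1, h2⟩ := Cfsg.Agent.S3633.result (G := G) {2, p, p'} hcard.ge (by
      refine ⟨?_, ?_⟩
      · intro x hx
        simp only [Finset.mem_insert, Finset.mem_singleton] at hx
        rcases hx with rfl | rfl | rfl
        · exact ⟨Nat.prime_two, h2G⟩
        · exact ⟨hp, hpG _ (Or.inl hpn)⟩
        · exact ⟨hp', hpG _ (Or.inr hpn')⟩
      · intro x hx y hy hxy
        simp only [Finset.mem_insert, Finset.mem_singleton] at hx hy
        rintro ⟨g, hg⟩
        rcases hx with rfl | rfl | rfl <;> rcases hy with rfl | rfl | rfl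
        · exact hxy rfl
        · exact n2p g hg
        · exact n2p' g hg
        · exact n2p g (by rw [hg, mul_comm])
        · exact hxy rfl
        · exact npp g hg
        · exact n2p' g (by rw [hg, mul_comm])
        · exact npp g (by rw [hg, mul_comm])
        · exact hxy rfl) K hsol
    refine ⟨fun h3 h4 => ?_, fun h3 h4 => ?_, h2⟩
    · exact hp2 (h1 2 (by simp) p (by simp) h3 h4).symm
    · exact hp2' (h1 2 (by simp) p' (by simp) h3 h4).symm
  obtain ⟨R, hRc, hRs, hRm⟩ := Cfsg.Agent.SignalizersComponents.ComponentExists.exists_solvableRadical G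
  have hns : ¬ Group.IsSolvable G := (hcoc s r hs hr hsn hrn R inferInstance hRs).2.2
  obtain ⟨S, hSn, hSs, hSna, hSc⟩ := Cfsg.Agent.S4008.result hns (even_iff_two_dvd.mpr h2G) r hr
    (ne_two hpow hr (Or.inr hrn)) (hpG _ (Or.inr hrn)) (no_two_mul hpow hωG hr (Or.inr hrn)) R hRs hRm
  have h2S : 2 ∣ Nat.card S := (Cfsg.Agent.H388.EvenFixAll.even_card hSna).two_dvd
  -- primes not dividing `|R|`
  have hR : ∀ p, p.Prime → (p ∣ nn (Fintype.card F) ∨ p ∣ Fintype.card F + 1) → ¬ p ∣ Nat.card R := by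
    intro p hp hpn hpR
    have h2R : ¬ 2 ∣ Nat.card R := by
      intro h2R
      rcases hpn with h1 | h1
      · exact (hcoc p r hp hr h1 hrn R inferInstance hRs).1 h2R hpR
      · exact (hcoc s p hs hp hsn h1 R inferInstance hRs).2.1 h2R hpR
    exact not_dvd_card hp (ne_two hpow hp hpn) (no_two_mul hpow hωG hp hpn) R hRs h2R S hSs hSna h2S hpR
  -- the quotient
  have hωM : ∀ g : G ⧸ R, Om (Fintype.card F) (orderOf g) := by
    intro g
    obtain ⟨g', hg'⟩ := exists_orderOf_of_surj (QuotientGroup.mk' R) (QuotientGroup.mk'_surjective R) g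
    rw [← hg']
    exact hωG g'
  have hM : ∀ n, (∀ p, p.Prime → p ∣ n → ¬ p ∣ Nat.card R) → (∃ g : G, orderOf g = n) → ∃ g : G ⧸ R, orderOf g = n := by
    rintro n hn ⟨g, rfl⟩
    have hc : Nat.Coprime (orderOf g) (Nat.card R) := by
      by_contra hc
      obtain ⟨p, hp, h1, h2⟩ := Nat.Prime.not_coprime_iff_dvd.mp hc
      exact hn p hp h1 h2
    exact ⟨QuotientGroup.mk' R g, orderOf_mk R g hc⟩
  have hnnM := hM _ (fun p hp h1 => hR p hp (Or.inl h1)) hnn
  have hqqM := hM _ (fun p hp h1 => hR p hp (Or.inr h1)) hqq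
  obtain ⟨e⟩ := socle (F := F) S hSna Cfsg.Agent.S0000.result hpow hωM hnnM hqqM
  have hStop : S = ⊤ := eq_top S e hSc hωM
  let e' : (G ⧸ R) ≃* Matrix.ProjectiveSpecialLinearGroup (Fin 3) F :=
    (Subgroup.topEquiv.symm.trans (MulEquiv.subgroupCongr hStop.symm)).trans e
  let π : G →* Matrix.ProjectiveSpecialLinearGroup (Fin 3) F := e'.toMonoidHom.comp (QuotientGroup.mk' R)
  have hπ : Function.Surjective π := e'.surjective.comp (QuotientGroup.mk'_surjective R)
  have hker : π.ker = R := by
    ext g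
    rw [MonoidHom.mem_ker]
    show e' (QuotientGroup.mk' R g) = 1 ↔ g ∈ R
    rw [MulEquiv.map_eq_one_iff]
    exact QuotientGroup.eq_one_iff g
  obtain ⟨x, y, hx, hy, hy1, hxy⟩ := exists_four_inverting (F := F) hr hrn
  have hinj : Function.Injective π := by
    refine cover π hπ (by rw [hker]; exact hRs) ?_ hr (ne_two hpow hr (Or.inr hrn))
      (no_two_mul hpow hωG hr (Or.inr hrn)) x y hx hy hy1 hxy ?_
    · intro g hg
      have h1 := om_four_dvd hpow (hωG g) (by rw [hg]; norm_num)
      omega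
    · intro p hp hp2 hpK
      rw [hker] at hpK
      refine ⟨?_, ?_⟩
      · intro g hg
        have h1 := om_four_dvd hpow (hωG g) (by rw [hg]; exact Dvd.intro _ rfl)
        have h3 := hp.two_le
        omega
      · rcases hpow.cases with h1 | h1 | h1 | h1
        · exfalso
          have hpG' : p ∣ Nat.card G := hpK.trans (Subgroup.card_subgroup_dvd_card R)
          obtain ⟨g, hg⟩ := exists_of_prime hp hpG'
          have h3 := hωG g
          rw [hg, h1] at h3
          have h7 : nn 2 = 7 := by decide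
          rcases om_two_small h3 with h5 | h5 | h5 | h5 | h5
          · exact hp.one_lt.ne' h5
          · exact hp2 h5
          · exact hR p hp (Or.inr (by rw [h1, h5])) hpK
          · rw [h5] at hp; exact absurd hp (by norm_num)
          · exact hR p hp (Or.inl (by rw [h1, h7, h5])) hpK
        · exact exists_fourSq (by omega)
        · exact exists_fourSq (by omega)
        · have := hpow.two_le
          exact exists_fourSq (by omega)
  exact ⟨MulEquiv.ofBijective π ⟨hinj, hπ⟩⟩

end Cfsg.Agent.H375.LThree
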